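import Mathlib
import Groth.Agent.CAlgH.ArtFlat
import Groth.Agent.TorShift.Basic

/-!
# Lifting exactness and flatness along nilpotent thickenings over Artinian local rings
-/

universe u w

namespace Groth.Agent.ArtLift

open IsLocalRing CAlgH.ArtFlat

variable {A : Type u} [CommRing A]
variable {P M N : Type*} [AddCommGroup P] [Module A P] [AddCommGroup M] [Module A M] [AddCommGroup N] [Module A N]

/-- Exactness of `P → M → N` modulo `I`, stated on elements. -/
def ExactMod (I : Ideal A) (f : P →ₗ[A] M) (g : M →ₗ[A] N) : Prop :=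
  ∀ x, g x ∈ (I • ⊤ : Submodule A N) → ∃ y, x - f y ∈ (I • ⊤ : Submodule A M)

variable [IsLocalRing A] [IsArtinianRing A]

/-- If `f` has flat cokernel and the complex of flat modules is exact modulo a proper ideal, then it is
exact and `g` has flat cokernel. -/
theorem exact_and_flat [Module.Flat A N] {f : P →ₗ[A] M} {g : M →ₗ[A] N} (hgf : g ∘ₗ f = 0)
    [Module.Flat A (M ⧸ LinearMap.range f)] {I : Ideal A} (hI : I ≠ ⊤) (hex : ExactMod I f g) :
    Function.Exact f g ∧ Module.Flat A (N ⧸ LinearMap.range g) := by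
  have hle : LinearMap.range f ≤ LinearMap.ker g := by
    rintro _ ⟨y, rfl⟩
    exact LinearMap.congr_fun hgf y
  let L := (LinearMap.range f).liftQ g hle
  have hL : InjMod I L := by
    intro z hz
    obtain ⟨x, rfl⟩ := Submodule.Quotient.mk_surjective _ z
    obtain ⟨y, hy⟩ := hex x hz
    have h1 : (LinearMap.range f).mkQ x = (LinearMap.range f).mkQ (x - f y) := by
      simp only [map_sub, Submodule.mkQ_apply, (Submodule.Quotient.mk_eq_zero _).2 (LinearMap.mem_range_self f y), sub_zero]
    rw [← Submodule.mkQ_apply, h1]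
    have := Submodule.mem_map_of_mem (f := (LinearMap.range f).mkQ) hy
    rw [Submodule.map_smul'', Submodule.map_top, Submodule.range_mkQ] at this
    exact this
  have hm := injMod_maximal hI hL
  refine ⟨fun x => ⟨fun hx => ?_, fun ⟨y, hy⟩ => hy ▸ LinearMap.congr_fun hgf y⟩, ?_⟩
  · have : L ((LinearMap.range f).mkQ x) = L 0 := by simpa [L] using hx
    simpa using (Submodule.Quotient.mk_eq_zero _).1 (injective_of_injMod hm this)
  · haveI := flat_quotient hm
    exact Module.Flat.of_linearEquiv
      (Submodule.quotEquivOfEq _ _ (Submodule.range_liftQ (LinearMap.range f) g hle).symm)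

/-- An injective-modulo-`I` map of flat modules is injective with flat cokernel. -/
theorem injective_and_flat [Module.Flat A M] [Module.Flat A N] {g : M →ₗ[A] N} {I : Ideal A} (hI : I ≠ ⊤)
    (hg : InjMod I g) : Function.Injective g ∧ Module.Flat A (N ⧸ LinearMap.range g) :=
  ⟨injective_of_injMod (injMod_maximal hI hg), flat_quotient (injMod_maximal hI hg)⟩

/-- An ideal with flat quotient is generated by any lifts of generators of its reduction. -/
theorem eq_span_of_flat_quotient {S : Type u} [CommRing S] [Algebra A S] {I : Ideal A} (hI : I ≠ ⊤)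
    (J : Ideal S) [Module.Flat A (S ⧸ J)] {ι : Type w} (g : ι → S) (hg : ∀ i, g i ∈ J)
    (hJ : J.map (Ideal.Quotient.mk (I.map (algebraMap A S))) =
      (Ideal.span (Set.range g)).map (Ideal.Quotient.mk (I.map (algebraMap A S)))) :
    J = Ideal.span (Set.range g) := by
  refine le_antisymm ?_ (Ideal.span_le.2 (Set.range_subset_iff.2 hg))
  let T := Ideal.span (Set.range g)
  let mk := Ideal.Quotient.mk (I.map (algebraMap A S))
  let d : J →ₗ[A] S := J.subtype.restrictScalars A
  have hrange : LinearMap.range d = J.restrictScalars A := by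
    ext x; simp [d]
  have : Module.Flat A (S ⧸ LinearMap.range d) :=
    Module.Flat.of_linearEquiv ((Submodule.quotEquivOfEq _ _ hrange).trans
      (Submodule.Quotient.restrictScalarsEquiv A J))
  have hTJ : T ≤ J := Ideal.span_le.2 (Set.range_subset_iff.2 hg)
  have hstep : ∀ x ∈ J, ∃ y ∈ I • (⊤ : Submodule A J), x - y.1 ∈ T := by
    intro x hx
    have h1 : mk x ∈ T.map mk := hJ ▸ Ideal.mem_map_of_mem _ hx
    obtain ⟨j, hj, hjx⟩ := (Ideal.mem_map_iff_of_surjective _ Ideal.Quotient.mk_surjective).1 h1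
    have h2 : x - j ∈ I • (⊤ : Submodule A S) := by
      rw [Ideal.smul_top_eq_map, Submodule.restrictScalars_mem, ← Ideal.Quotient.eq]
      exact hjx.symm
    obtain ⟨y, hy, hyd⟩ := Groth.Agent.TorShift.exists_mem_smul_top_of_flat d
      (x := ⟨x - j, sub_mem hx (hTJ hj)⟩) h2
    refine ⟨y, hy, ?_⟩
    rw [show y.1 = x - j from hyd, sub_sub_cancel]
    exact hj
  have hle : ∀ N : ℕ, ∀ x : J, ∃ y ∈ (I ^ N) • (⊤ : Submodule A J), x.1 - y.1 ∈ T := by
    intro N
    induction N with
    | zero => exact fun x => ⟨x, by simp, by simp⟩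
    | succ N ih =>
      intro x
      obtain ⟨y, hy, hxy⟩ := ih x
      suffices ∃ z ∈ (I ^ (N + 1)) • (⊤ : Submodule A J), y.1 - z.1 ∈ T by
        obtain ⟨z, hz, hyz⟩ := this
        exact ⟨z, hz, by simpa using add_mem hxy hyz⟩
      refine Submodule.smul_induction_on hy (fun c hc v _ => ?_) ?_
      · obtain ⟨z, hz, hvz⟩ := hstep v.1 v.2
        refine ⟨c • z, ?_, ?_⟩
        · rw [pow_succ, Submodule.mul_smul]
          exact Submodule.smul_mem_smul hc hz
        · have : (c • v : J).1 - (c • z : J).1 = c • (v.1 - z.1) := by simp [smul_sub]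
          rw [this]
          exact Submodule.smul_of_tower_mem T c hvz
      · rintro y₁ y₂ ⟨z₁, hz₁, h₁⟩ ⟨z₂, hz₂, h₂⟩
        refine ⟨z₁ + z₂, add_mem hz₁ hz₂, ?_⟩
        simpa [add_sub_add_comm] using add_mem h₁ h₂
  obtain ⟨N, hN⟩ := IsArtinianRing.isNilpotent_jacobson_bot (R := A)
  rw [IsLocalRing.jacobson_eq_maximalIdeal ⊥ bot_ne_top] at hN
  intro x hx
  obtain ⟨y, hy, hxy⟩ := hle N ⟨x, hx⟩
  have hI0 : I ^ N ≤ ⊥ := (Ideal.pow_right_mono (IsLocalRing.le_maximalIdeal hI) N).trans hN.le
  rw [le_bot_iff.1 hI0, Submodule.bot_smul, Submodule.mem_bot] at hy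
  simpa [hy] using hxy

end Groth.Agent.ArtLift
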