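import Mathlib.RingTheory.Flat.EquationalCriterion
import Mathlib.RingTheory.Ideal.Operations
import Mathlib.RingTheory.Ideal.BigOperators
import Mathlib.RingTheory.LocalRing.MaximalIdeal.Basic
import Mathlib.RingTheory.Nakayama
import Mathlib.RingTheory.Noetherian.Defs

/-!
# Coefficients modulo a maximal ideal in flat algebras
-/

universe u

namespace Groth.Agent.ArtLift

variable {C A : Type u} [CommRing C] [IsLocalRing C] [CommRing A] [Algebra C A] [Module.Flat C A]

/-- If `s ∉ J` and `s a ∈ J A`, then `a` lies in `m A`, for a flat algebra over a local ring. -/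
theorem mem_map_maximalIdeal_of_mul_mem {J : Ideal C} {s : C} (hs : s ∉ J) {a : A}
    (ha : algebraMap C A s * a ∈ J.map (algebraMap C A)) :
    a ∈ (IsLocalRing.maximalIdeal C).map (algebraMap C A) := by
  classical
  have hfin : ∀ y ∈ (J • ⊤ : Submodule C A), ∃ (k : ℕ) (c : Fin k → C) (z : Fin k → A),
      (∀ j, c j ∈ J) ∧ y = ∑ j, c j • z j := by
    intro y hy
    induction hy using Submodule.smul_induction_on' with
    | smul a ha y _ => exact ⟨1, fun _ => a, fun _ => y, fun _ => ha, by simp⟩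
    | add y _ z _ hy hz =>
      obtain ⟨k, c, m, hc, rfl⟩ := hy
      obtain ⟨k', c', m', hc', rfl⟩ := hz
      exact ⟨k + k', Fin.append c c', Fin.append m m',
        fun j => j.addCases (by simpa using hc) (by simpa using hc'), by simp [Fin.sum_univ_add]⟩
  obtain ⟨k, c, z, hc, hsum⟩ := hfin (s • a) (by
    rw [Ideal.smul_top_eq_map, Submodule.restrictScalars_mem, Algebra.smul_def]
    exact ha)
  have hrel : ∑ i : Option (Fin k), (fun o => Option.elim o s (fun j => -c j)) i •
      (fun o => Option.elim o a z) i = 0 := by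
    simp [Fintype.sum_option, hsum]
  obtain ⟨l, w, y, hw, hy⟩ := Module.Flat.isTrivialRelation_of_sum_smul_eq_zero hrel
  rw [show a = _ from hw none]
  refine Ideal.sum_mem _ fun j _ => ?_
  rw [Algebra.smul_def]
  refine Ideal.mul_mem_right _ _ (Ideal.mem_map_of_mem _ ?_)
  have h1 := hy j
  simp only [Fintype.sum_option, Option.elim] at h1
  have h2 : s * w none j ∈ J := by
    rw [eq_neg_of_add_eq_zero_left h1]
    exact neg_mem (Ideal.sum_mem _ fun i _ => Ideal.mul_mem_right _ _ (neg_mem (hc i)))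
  rw [IsLocalRing.mem_maximalIdeal, mem_nonunits_iff]
  exact fun hu => hs ((Ideal.mul_unit_mem_iff_mem _ hu).1 h2)

/-- A nonzero ideal covers an ideal with simple quotient. -/
theorem exists_simple_step {R : Type u} [CommRing R] [IsLocalRing R] [IsNoetherianRing R] {J : Ideal R} (hJ : J ≠ ⊥) :
    ∃ (J' : Ideal R) (s : R), J' < J ∧ s ∉ J' ∧ J' ⊔ Ideal.span {s} = J ∧
      ∀ c ∈ IsLocalRing.maximalIdeal R, c * s ∈ J' := by
  obtain ⟨J', hlt, hmax⟩ := exists_maximalFor_of_wellFoundedGT (P := fun I : Ideal R => I < J) id ⟨⊥, bot_lt_iff_ne_bot.2 hJ⟩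
  obtain ⟨s, hsJ, hsJ'⟩ := SetLike.exists_of_lt hlt
  have hcov : ∀ I, J' ≤ I → I < J → I = J' := fun I h1 h2 => le_antisymm (hmax h2 h1) h1
  refine ⟨J', s, hlt, hsJ', ?_, fun c hc => ?_⟩
  · by_contra hne
    have h1 := hcov _ le_sup_left ((sup_le hlt.le ((Ideal.span_singleton_le_iff_mem _).2 hsJ)).lt_of_ne hne)
    exact hsJ' (h1 ▸ Ideal.mem_sup_right (Ideal.mem_span_singleton_self s))
  · have hne : J' ⊔ IsLocalRing.maximalIdeal R • J ≠ J := fun he => by
      refine hlt.not_ge (Submodule.le_of_le_smul_of_le_jacobson_bot (IsNoetherian.noetherian J) ?_ he.ge)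
      rw [IsLocalRing.jacobson_eq_maximalIdeal ⊥ bot_ne_top]
    have hsmul : IsLocalRing.maximalIdeal R • J ≤ J := Submodule.smul_le_right
    rw [← hcov _ le_sup_left ((sup_le hlt.le hsmul).lt_of_ne hne)]
    exact Submodule.mem_sup_right (Submodule.smul_mem_smul hc hsJ)

end Groth.Agent.ArtLift
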