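import Groth.Agent.ArtLift.Basic
import Groth.Agent.CAlgH.ArtFlatSeq
import Groth.Agent.Depth.CM
import Groth.Agent.LocCohBasic.FaltingsRegular
import Groth.Agent.GeomRegH.Basic

/-!
# Lifting Hilbert–Burch resolutions over Artinian local rings
-/

noncomputable section

universe u

namespace Groth.Agent.ArtLift

open RingTheory.Sequence

/-- Signed maximal minors. -/
def minors {A : Type u} [CommRing A] {r : ℕ} (φ : Matrix (Fin (r + 1)) (Fin r) A) : Fin (r + 1) → A :=
  fun i => (-1 : A) ^ (i : ℕ) * (φ.submatrix i.succAbove id).det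

lemma map_minors {A B : Type u} [CommRing A] [CommRing B] (g : A →+* B) {r : ℕ}
    (φ : Matrix (Fin (r + 1)) (Fin r) A) (i : Fin (r + 1)) : g (minors φ i) = minors (φ.map g) i := by
  simp only [minors, map_mul, map_pow, map_neg, map_one, RingHom.map_det]
  rfl

lemma sum_mul_minors {A : Type u} [CommRing A] {r : ℕ} (φ : Matrix (Fin (r + 1)) (Fin r) A) (j : Fin r) :
    ∑ i, φ i j * minors φ i = 0 := by
  let M : Matrix (Fin (r + 1)) (Fin (r + 1)) A := Matrix.of fun i => Fin.cons (φ i j) (φ i)
  have hM : M.det = 0 := Matrix.det_zero_of_column_eq (Fin.succ_ne_zero j) fun i => by simp [M]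
  rw [Matrix.det_succ_column_zero] at hM
  rw [← hM]
  refine Finset.sum_congr rfl fun i _ => ?_
  have : M.submatrix i.succAbove Fin.succ = φ.submatrix i.succAbove id := by ext a b; simp [M]
  rw [this]
  simp [M, minors]
  ring

/-- A complex with the signed minors, exact modulo a proper ideal, is exact with flat cokernel. -/
theorem minors_exact {C A : Type u} [CommRing C] [IsLocalRing C] [IsArtinianRing C] [CommRing A] [Algebra C A]
    [Module.Flat C A] {J : Ideal C} (hJ : J ≠ ⊤) {r : ℕ} (φ' : Matrix (Fin (r + 1)) (Fin r) A)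
    (hinj : Function.Injective (φ'.map (Ideal.Quotient.mk (J.map (algebraMap C A)))).mulVecLin)
    (hex : LinearMap.range (φ'.map (Ideal.Quotient.mk (J.map (algebraMap C A)))).mulVecLin =
      LinearMap.ker (Fintype.linearCombination (A ⧸ J.map (algebraMap C A))
        (minors (φ'.map (Ideal.Quotient.mk (J.map (algebraMap C A))))))) :
    Function.Injective φ'.mulVecLin ∧
      LinearMap.range φ'.mulVecLin = LinearMap.ker (Fintype.linearCombination A (minors φ')) ∧
      Module.Flat C (A ⧸ Ideal.span (Set.range (minors φ'))) := by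
  classical
  let P := J.map (algebraMap C A)
  let mk := Ideal.Quotient.mk P
  let minor := minors φ'
  let φ := φ'.map mk
  let mb := minors φ
  let f : (Fin r → A) →ₗ[C] (Fin (r + 1) → A) := φ'.mulVecLin.restrictScalars C
  let g : (Fin (r + 1) → A) →ₗ[C] A := (Fintype.linearCombination A minor).restrictScalars C
  have hminor : ∀ i, mk (minor i) = mb i := fun i => map_minors mk φ' i
  have hcoord : ∀ {m : ℕ} (x : Fin m → A),
      x ∈ (J • ⊤ : Submodule C (Fin m → A)) ↔ ∀ i, mk (x i) = 0 := by
    intro m x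
    constructor
    · intro hx i
      refine Submodule.smul_induction_on hx (fun c hc y _ => ?_) fun a b ha hb => by
        simp [Pi.add_apply, ha, hb]
      rw [Pi.smul_apply, Algebra.smul_def, Ideal.Quotient.eq_zero_iff_mem]
      exact Ideal.mul_mem_right _ _ (Ideal.mem_map_of_mem _ hc)
    · intro h
      rw [← CAlgH.ArtFlat.mem_map_smul_top_iff (S := A), ← Finset.univ_sum_single x]
      refine Submodule.sum_mem _ fun i _ => ?_
      rw [show Pi.single i (x i) = x i • (Pi.single i (1 : A) : Fin m → A) by ext; simp [Pi.single_apply]]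
      exact Submodule.smul_mem_smul (Ideal.Quotient.eq_zero_iff_mem.1 (h i)) Submodule.mem_top
  have hmulVec : ∀ v : Fin r → A, (fun i => mk (φ'.mulVec v i)) = φ.mulVec (fun i => mk (v i)) :=
    fun v => funext fun i => RingHom.map_mulVec mk φ' v i
  have hg : ∀ x : Fin (r + 1) → A, mk (g x) = Fintype.linearCombination (A ⧸ P) mb (fun i => mk (x i)) := by
    intro x
    simp [g, Fintype.linearCombination_apply, map_sum, hminor]
  have hgf : g ∘ₗ f = 0 := by
    refine LinearMap.ext fun v => ?_
    suffices h : ∀ j, ∑ i, φ' i j * minor i = 0 by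
      simp only [g, f, LinearMap.comp_apply, LinearMap.restrictScalars_apply, Matrix.mulVecLin_apply,
        Fintype.linearCombination_apply, smul_eq_mul, Matrix.mulVec, dotProduct, Finset.sum_mul, LinearMap.zero_apply]
      rw [Finset.sum_comm]
      refine Finset.sum_eq_zero fun j _ => ?_
      calc ∑ i, φ' i j * v j * minor i = v j * ∑ i, φ' i j * minor i := by
            rw [Finset.mul_sum]; exact Finset.sum_congr rfl fun i _ => by ring
        _ = 0 := by rw [h j, mul_zero]
    exact sum_mul_minors φ'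
  have hinj' : CAlgH.ArtFlat.InjMod J f := by
    intro v hv
    rw [hcoord] at hv ⊢
    have : φ.mulVecLin (fun i => mk (v i)) = φ.mulVecLin 0 := by
      rw [map_zero, Matrix.mulVecLin_apply, ← hmulVec]
      exact funext hv
    exact congrFun (hinj this)
  have hfl : ∀ m, Module.Flat C (Fin m → A) := fun m => Module.Flat.trans C A _
  obtain ⟨hf, hflat⟩ := Groth.Agent.ArtLift.injective_and_flat hJ hinj'
  have hex' : Groth.Agent.ArtLift.ExactMod J f g := by
    intro x hx
    have h0 : mk (g x) = 0 := by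
      rw [Ideal.smul_top_eq_map, Submodule.restrictScalars_mem] at hx
      exact Ideal.Quotient.eq_zero_iff_mem.2 hx
    rw [hg] at h0
    have h1 : (fun i => mk (x i)) ∈ LinearMap.ker (Fintype.linearCombination (A ⧸ P) mb) := h0
    rw [← hex] at h1
    obtain ⟨z, hz⟩ := h1
    choose y hy using fun i => Ideal.Quotient.mk_surjective (z i)
    refine ⟨y, (hcoord _).2 fun i => ?_⟩
    rw [Pi.sub_apply, map_sub, sub_eq_zero]
    have h2 := congrFun (hmulVec y) i
    rw [show (fun i => mk (y i)) = z from funext hy] at h2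
    exact (congrFun hz i).symm.trans h2.symm
  obtain ⟨hexact, hflat2⟩ := Groth.Agent.ArtLift.exact_and_flat hgf hJ hex'
  refine ⟨hf, ?_, ?_⟩
  · exact SetLike.ext fun x => (hexact x).symm
  · refine Module.Flat.of_linearEquiv ((((Submodule.quotEquivOfEq _ _
      (LinearMap.range_restrictScalars (Fintype.linearCombination A minor))).trans
      (Submodule.Quotient.restrictScalarsEquiv C _)).trans ((Submodule.quotEquivOfEq _ _ ?_).restrictScalars C)).symm)
    exact Fintype.range_linearCombination A minor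

/-- In a Cohen–Macaulay ring an ideal of height at least two contains a weakly regular pair. -/
theorem exists_regular_pair_of_cm {R : Type u} [CommRing R] [LocCoh.IsCohenMacaulayRing R] (I : Ideal R)
    (h : ∀ p : Ideal R, p.IsPrime → I ≤ p → (2 : ℕ∞) ≤ p.height) :
    ∃ x ∈ I, ∃ y ∈ I, IsWeaklyRegular R [x, y] := by
  rcases eq_or_ne I ⊤ with rfl | hI
  · refine ⟨1, trivial, 1, trivial, ?_⟩
    simp [isWeaklyRegular_cons_iff, IsSMulRegular.one]
  · have h2 : ((2 : ℕ) : ℕ∞) ≤ LocCoh.idealDepth I R := by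
      rw [Depth.idealDepth_eq_height]
      rw [Ideal.height_eq_inf_minimalPrimes]
      refine le_iInf₂ fun p hp => ?_
      exact_mod_cast h p hp.1.1 hp.1.2
    obtain ⟨rs, hl, hm, hreg⟩ := (Depth.le_idealDepth_iff_exists (Depth.smul_top_ne_top_self hI)).1 h2
    match rs, hl with
    | [x, y], _ => exact ⟨x, hm x (by simp), y, hm y (by simp), hreg⟩

/-- In a regular ring an ideal of height at least two contains a weakly regular pair. -/
theorem exists_regular_pair {R : Type u} [CommRing R] [IsRegularRing R] (I : Ideal R)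
    (h : ∀ p : Ideal R, p.IsPrime → I ≤ p → (2 : ℕ∞) ≤ p.height) :
    ∃ x ∈ I, ∃ y ∈ I, IsWeaklyRegular R [x, y] :=
  have : LocCoh.IsCohenMacaulayRing R := Groth.Agent.LocCohBasic.isCohenMacaulayRing_of_isRegularRing
  exists_regular_pair_of_cm I h

/-- Heights of primes are unchanged by a surjection with nil kernel. -/
theorem height_comap_of_nil {R S : Type u} [CommRing R] [CommRing S] (g : R →+* S) (hg : Function.Surjective g)
    (hnil : RingHom.ker g ≤ nilradical R) (p : Ideal S) [p.IsPrime] : (p.comap g).height = p.height := by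
  let e : PrimeSpectrum S ↪o PrimeSpectrum R := OrderEmbedding.ofMapLEIff (PrimeSpectrum.comap g) fun a b => by
    change a.asIdeal.comap g ≤ b.asIdeal.comap g ↔ _
    rw [Ideal.comap_le_comap_iff_of_surjective _ hg]
    rfl
  have he : Function.Surjective e := by
    intro q
    have : q ∈ Set.range (PrimeSpectrum.comap g) := by
      rw [range_comap_of_surjective _ _ hg, PrimeSpectrum.mem_zeroLocus, SetLike.coe_subset_coe]
      exact hnil.trans (nilradical_le_prime q.asIdeal)
    exact this
  refine (PrimeSpectrum.height_eq_orderHeight (PrimeSpectrum.comap g ⟨p, ‹_›⟩)).trans ?_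
  exact (Order.height_orderIso (RelIso.ofSurjective e he) ⟨p, ‹_›⟩).trans
    (PrimeSpectrum.height_eq_orderHeight ⟨p, ‹_›⟩).symm

variable {C A : Type u} [CommRing C] [IsLocalRing C] [IsArtinianRing C] [CommRing A] [Algebra C A] [Module.Flat C A]

omit [Module.Flat C A] in
/-- The nilpotent ideal `J A`. -/
theorem isNilpotent_of_mem_map {J : Ideal C} (hJ : J ≠ ⊤) {x : A} (hx : x ∈ J.map (algebraMap C A)) :
    IsNilpotent x := by
  obtain ⟨N, hN⟩ := IsArtinianRing.isNilpotent_jacobson_bot (R := C)
  rw [IsLocalRing.jacobson_eq_maximalIdeal ⊥ bot_ne_top] at hN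
  refine ⟨N, ?_⟩
  have h1 := Ideal.pow_mem_pow (Ideal.map_mono (IsLocalRing.le_maximalIdeal hJ) hx) N
  rw [← Ideal.map_pow, hN] at h1
  simpa using h1

/-- An ideal with flat quotient lifting an ideal of maximal minors is given by a lifted matrix. -/
theorem exists_minors_lift {J : Ideal C} (hJ : J ≠ ⊤) {r : ℕ}
    (φ : Matrix (Fin (r + 1)) (Fin r) (A ⧸ J.map (algebraMap C A))) (hinj : Function.Injective φ.mulVecLin)
    (hex : LinearMap.range φ.mulVecLin =
      LinearMap.ker (Fintype.linearCombination (A ⧸ J.map (algebraMap C A)) (minors φ)))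
    (I : Ideal A) [Module.Flat C (A ⧸ I)]
    (hI : I.map (Ideal.Quotient.mk (J.map (algebraMap C A))) = Ideal.span (Set.range (minors φ)))
    (hpair : ∃ x ∈ I, ∃ y ∈ I, IsWeaklyRegular (A ⧸ (IsLocalRing.maximalIdeal C).map (algebraMap C A))
      ([x, y].map (Ideal.Quotient.mk ((IsLocalRing.maximalIdeal C).map (algebraMap C A))))) :
    ∃ φ' : Matrix (Fin (r + 1)) (Fin r) A, φ'.map (Ideal.Quotient.mk (J.map (algebraMap C A))) = φ ∧
      I = Ideal.span (Set.range (minors φ')) ∧ Function.Injective φ'.mulVecLin ∧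
      LinearMap.range φ'.mulVecLin = LinearMap.ker (Fintype.linearCombination A (minors φ')) := by
  classical
  let P := J.map (algebraMap C A)
  let mk := Ideal.Quotient.mk P
  have hmem : ∀ i, ∃ a ∈ I, mk a = minors φ i := fun i => by
    have : minors φ i ∈ I.map mk := hI.symm ▸ Ideal.subset_span ⟨i, rfl⟩
    exact (Ideal.mem_map_iff_of_surjective _ Ideal.Quotient.mk_surjective).1 this
  choose a haI ha using hmem
  have hIa : I = Ideal.span (Set.range a) := eq_span_of_flat_quotient hJ I a haI (by
    rw [hI, Ideal.map_span, ← Set.range_comp]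
    exact congrArg (fun g => Ideal.span (Set.range g)) (funext ha).symm)
  choose φt hφt using fun i j => Ideal.Quotient.mk_surjective (φ i j)
  let d : I →ₗ[C] A := I.subtype.restrictScalars C
  have hrange : LinearMap.range d = I.restrictScalars C := by
    ext x; simp [d]
  have : Module.Flat C (A ⧸ LinearMap.range d) :=
    Module.Flat.of_linearEquiv ((Submodule.quotEquivOfEq _ _ hrange).trans
      (Submodule.Quotient.restrictScalarsEquiv C I))
  have hcor : ∀ j, ∃ δ : Fin (r + 1) → A, (∀ i, δ i ∈ P) ∧ ∑ i, δ i * a i = ∑ i, φt i j * a i := by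
    intro j
    have h0 : mk (∑ i, φt i j * a i) = 0 := by
      simp only [map_sum, map_mul, mk, P, hφt]
      exact (Finset.sum_congr rfl fun i _ => by rw [show Ideal.Quotient.mk P (a i) = minors φ i from ha i]).trans
        (sum_mul_minors φ j)
    have hxI : ∑ i, φt i j * a i ∈ I := Ideal.sum_mem _ fun i _ => Ideal.mul_mem_left _ _ (haI i)
    have h2 : ∑ i, φt i j * a i ∈ J • (⊤ : Submodule C A) := by
      rw [Ideal.smul_top_eq_map, Submodule.restrictScalars_mem]
      exact Ideal.Quotient.eq_zero_iff_mem.1 h0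
    obtain ⟨y, hy, hyd⟩ := Groth.Agent.TorShift.exists_mem_smul_top_of_flat d (x := ⟨_, hxI⟩) h2
    suffices h : ∃ δ : Fin (r + 1) → A, (∀ i, δ i ∈ P) ∧ ∑ i, δ i * a i = y.1 by
      obtain ⟨δ, h1, h3⟩ := h
      exact ⟨δ, h1, h3.trans hyd⟩
    refine Submodule.smul_induction_on hy (fun c hc v _ => ?_) ?_
    · have hv : v.1 ∈ Ideal.span (Set.range a) := hIa ▸ v.2
      obtain ⟨e, he⟩ := Ideal.mem_span_range_iff_exists_fun.1 hv
      refine ⟨fun i => algebraMap C A c * e i, fun i => Ideal.mul_mem_right _ _ (Ideal.mem_map_of_mem _ hc), ?_⟩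
      rw [SetLike.val_smul_of_tower, Algebra.smul_def, ← he, Finset.mul_sum]
      exact Finset.sum_congr rfl fun i _ => by ring
    · rintro v w ⟨δ, h1, h2⟩ ⟨δ', h1', h2'⟩
      refine ⟨δ + δ', fun i => add_mem (h1 i) (h1' i), ?_⟩
      simp [add_mul, Finset.sum_add_distrib, h2, h2']
  choose δ hδ hδsum using hcor
  let φ' : Matrix (Fin (r + 1)) (Fin r) A := Matrix.of fun i j => φt i j - δ j i
  have hmap : φ'.map mk = φ := by
    ext i j
    change mk (φt i j - δ j i) = _
    rw [map_sub, show mk (δ j i) = 0 from Ideal.Quotient.eq_zero_iff_mem.2 (hδ j i), sub_zero]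
    exact hφt i j
  have haφ : ∀ j, ∑ i, a i * φ' i j = 0 := fun j => by
    simp only [φ', Matrix.of_apply, mul_comm (a _), sub_mul, Finset.sum_sub_distrib, sub_eq_zero, hδsum]
  obtain ⟨hinj', hex', -⟩ := minors_exact hJ φ' (by rw [hmap]; exact hinj) (by rw [hmap]; exact hex)
  refine ⟨φ', hmap, ?_, hinj', hex'⟩
  let f := minors φ'
  have hsym : ∀ s t, a t * f s = a s * f t := by
    intro s t
    let v : Fin (r + 1) → A := Pi.single t (f s) - Pi.single s (f t)
    have hv : v ∈ LinearMap.ker (Fintype.linearCombination A (minors φ')) := by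
      rw [LinearMap.mem_ker, map_sub, Fintype.linearCombination_apply_single, Fintype.linearCombination_apply_single]
      simp only [f, smul_eq_mul]
      ring
    rw [← hex'] at hv
    obtain ⟨w, hw⟩ := hv
    have h1 : ∑ i, a i * v i = 0 := by
      rw [← hw]
      simp only [Matrix.mulVecLin_apply, Matrix.mulVec, dotProduct, Finset.mul_sum]
      rw [Finset.sum_comm]
      refine Finset.sum_eq_zero fun j _ => ?_
      simp only [← mul_assoc, ← Finset.sum_mul, haφ, zero_mul]
    simpa [v, mul_sub, Finset.sum_sub_distrib, Pi.single_apply, sub_eq_zero] using h1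
  obtain ⟨x, hx, y, hy, hreg₀⟩ := hpair
  have hmax : IsLocalRing.maximalIdeal C ≠ ⊤ := (IsLocalRing.maximalIdeal.isMaximal C).ne_top
  have hreg : IsWeaklyRegular A [x, y] := (CAlgH.ArtFlat.isWeaklyRegular_quotient_iff hmax _).1 hreg₀
  have hregJ := (CAlgH.ArtFlat.isWeaklyRegular_quotient_iff hJ _).2 hreg
  rw [List.map_cons, isWeaklyRegular_cons_iff] at hregJ
  rw [hIa, Ideal.mem_span_range_iff_exists_fun] at hx hy
  obtain ⟨α, hα⟩ := hx
  obtain ⟨β, hβ⟩ := hy
  have key : ∀ (γ : Fin (r + 1) → A) (z : A), ∑ i, γ i * a i = z →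
      ∀ t, z * f t = a t * ∑ i, γ i * f i := by
    intro γ z hz t
    rw [← hz, Finset.sum_mul, Finset.mul_sum]
    refine Finset.sum_congr rfl fun i _ => ?_
    calc γ i * a i * f t = γ i * (a i * f t) := by ring
      _ = γ i * (a t * f i) := by rw [← hsym i t]
      _ = a t * (γ i * f i) := by ring
  set Fx := ∑ i, α i * f i with hFx
  set Fy := ∑ i, β i * f i with hFy
  have hxy : x * Fy = y * Fx := by
    rw [hFy, Finset.mul_sum, ← hβ, Finset.sum_mul]
    refine Finset.sum_congr rfl fun i _ => ?_
    calc x * (β i * f i) = β i * (x * f i) := by ring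
      _ = β i * (a i * Fx) := by rw [key α x hα i]
      _ = β i * a i * Fx := by ring
  rw [isWeaklyRegular_cons_iff, isWeaklyRegular_cons_iff] at hreg
  obtain ⟨hxr, hyr, -⟩ := hreg
  obtain ⟨u, hu⟩ : ∃ u, Fx = x * u := by
    have h1 : y • (Submodule.Quotient.mk Fx : QuotSMulTop x A) = y • 0 := by
      rw [smul_zero, ← Submodule.Quotient.mk_smul, Submodule.Quotient.mk_eq_zero, smul_eq_mul, ← hxy]
      exact Submodule.smul_mem_pointwise_smul Fy x ⊤ trivial
    obtain ⟨u, -, hu⟩ := (Submodule.mem_smul_pointwise_iff_exists _ _ _).1 ((Submodule.Quotient.mk_eq_zero _).1 (hyr h1))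
    exact ⟨u, hu.symm⟩
  have hf : ∀ t, f t = u * a t := fun t => hxr (by
    change x * f t = x * (u * a t)
    rw [key α x hα t, ← hFx, hu]; ring)
  have hu1 : u - 1 ∈ P := by
    rw [← Ideal.Quotient.eq_zero_iff_mem]
    refine hregJ.1 (?_ : mk x * mk (u - 1) = mk x * 0)
    rw [mul_zero, ← map_mul, ← hα, Finset.sum_mul, map_sum]
    refine Finset.sum_eq_zero fun i _ => ?_
    rw [show α i * a i * (u - 1) = α i * (f i - a i) by rw [hf i]; ring, map_mul, map_sub, ha,
      show mk (f i) = minors φ i by rw [map_minors, hmap], sub_self, mul_zero]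
  have huu : IsUnit u := by
    simpa using (isNilpotent_of_mem_map hJ hu1).isUnit_one_add
  rw [hIa]
  refine le_antisymm (Ideal.span_le.2 ?_) (Ideal.span_le.2 ?_)
  · rintro _ ⟨i, rfl⟩
    refine (Ideal.unit_mul_mem_iff_mem _ huu).1 ?_
    rw [← hf]
    exact Ideal.subset_span ⟨i, rfl⟩
  · rintro _ ⟨i, rfl⟩
    change f i ∈ _
    rw [hf]
    exact Ideal.mul_mem_left _ _ (Ideal.subset_span ⟨i, rfl⟩)

end Groth.Agent.ArtLift

end
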