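import Mathlib
import Groth.Agent.HilbSam.Degree

/-!
# Regularity from lifting of curvilinear jets
-/

set_option autoImplicit false

universe u

namespace Groth.Agent.ArtLift.Jets

open IsLocalRing Polynomial

variable {k : Type u} [Field k] {A : Type u} [CommRing A] [IsLocalRing A] [IsNoetherianRing A] [Algebra k A]

variable (k) in
/-- Truncated polynomial algebra. -/
abbrev Jet (l : ℕ) : Type u := k[X] ⧸ Ideal.span {(X : k[X]) ^ l}

/-- An element of the maximal ideal goes to a multiple of `X`. -/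
theorem exists_X_mul (hres : Function.Surjective (algebraMap k (ResidueField A))) {l : ℕ} (hl : 1 ≤ l)
    (φ : A →ₐ[k] Jet k l) {a : A} (ha : a ∈ maximalIdeal A) :
    ∃ q : k[X], φ a = Ideal.Quotient.mk _ (X * q) := by
  obtain ⟨p, hp⟩ := Ideal.Quotient.mk_surjective (φ a)
  by_contra hne
  have hc : p.coeff 0 ≠ 0 := fun h0 => by
    obtain ⟨q, rfl⟩ := X_dvd_iff.2 h0
    exact hne ⟨q, hp.symm⟩
  have hu : IsUnit (a - algebraMap k A (p.coeff 0)) := by
    by_contra hu
    have h1 := sub_mem ha ((mem_maximalIdeal _).2 hu)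
    rw [sub_sub_cancel] at h1
    exact (maximalIdeal.isMaximal A).ne_top (Ideal.eq_top_of_isUnit_mem _ h1 ((Ne.isUnit hc).map (algebraMap k A)))
  have hu' := hu.map φ
  obtain ⟨q, hq⟩ := X_dvd_iff.2 (show (p - C (p.coeff 0)).coeff 0 = 0 by simp)
  rw [map_sub, φ.commutes, ← hp, show algebraMap k (Jet k l) (p.coeff 0) = Ideal.Quotient.mk _ (C (p.coeff 0)) from rfl,
    ← map_sub, hq] at hu'
  have hnil : IsNilpotent (Ideal.Quotient.mk (Ideal.span {(X : k[X]) ^ l}) (X * q)) :=
    ⟨l, by rw [← map_pow, Ideal.Quotient.eq_zero_iff_mem, mul_pow]; exact Ideal.mul_mem_right _ _ (Ideal.mem_span_singleton_self _)⟩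
  have : Nontrivial (Jet k l) := Ideal.Quotient.nontrivial_iff.2 fun h => by
    rw [Ideal.eq_top_iff_one, Ideal.mem_span_singleton, ← isUnit_iff_dvd_one, isUnit_pow_iff (by omega)] at h
    exact not_isUnit_X h
  exact hnil.not_isUnit hu'

theorem map_pow_maximalIdeal (hres : Function.Surjective (algebraMap k (ResidueField A))) {l : ℕ} (hl : 1 ≤ l)
    (φ : A →ₐ[k] Jet k l) (n : ℕ) {a : A} (ha : a ∈ maximalIdeal A ^ n) :
    φ a ∈ Ideal.span {Ideal.Quotient.mk (Ideal.span {(X : k[X]) ^ l}) (X ^ n)} := by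
  have h1 : (maximalIdeal A).map φ ≤ Ideal.span {Ideal.Quotient.mk (Ideal.span {(X : k[X]) ^ l}) X} := by
    rw [Ideal.map_le_iff_le_comap]
    intro b hb
    obtain ⟨q, hq⟩ := exists_X_mul hres hl φ hb
    rw [Ideal.mem_comap, hq, map_mul]
    exact Ideal.mul_mem_right _ _ (Ideal.mem_span_singleton_self _)
  have := Ideal.pow_right_mono h1 n (by rw [← Ideal.map_pow]; exact Ideal.mem_map_of_mem _ ha)
  rwa [Ideal.span_singleton_pow, ← map_pow] at this

/-- A tangent vector gives a first order jet. -/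
theorem exists_jet_two (hres : Function.Surjective (algebraMap k (ResidueField A))) {d : ℕ} (x : Fin d → A)
    (hx : ∀ i, x i ∈ maximalIdeal A)
    (hind : ∀ c : Fin d → k, ∑ i, c i • x i ∈ maximalIdeal A ^ 2 → c = 0) (v : Fin d → k) :
    ∃ φ : A →ₐ[k] Jet k 2, ∀ i, ∃ p : k[X], φ (x i) = Ideal.Quotient.mk _ p ∧ p.coeff 0 = 0 ∧ p.coeff 1 = v i := by
  classical
  let S := A ⧸ maximalIdeal A ^ 2
  let mk : A →ₗ[k] S := (Ideal.Quotient.mkₐ k (maximalIdeal A ^ 2)).toLinearMap
  have hli : LinearIndependent k fun i => mk (x i) := by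
    rw [Fintype.linearIndependent_iff]
    intro c hc i
    have : ∑ i, c i • x i ∈ maximalIdeal A ^ 2 := by
      rw [← Ideal.Quotient.eq_zero_iff_mem]
      rw [← map_zero mk] at hc
      simp only [← map_smul, ← map_sum] at hc
      exact hc.trans (map_zero mk)
    exact congrFun (hind c this) i
  obtain ⟨L, hL⟩ := LinearMap.exists_extend (Finsupp.linearCombination k v ∘ₗ hli.repr)
  have hLx : ∀ i, L (mk (x i)) = v i := by
    intro i
    have h := LinearMap.congr_fun hL ⟨mk (x i), Submodule.subset_span ⟨i, rfl⟩⟩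
    simp only [LinearMap.comp_apply, Submodule.subtype_apply] at h
    rw [h, hli.repr_eq_single i _ rfl]
    simp
  have hbij : Function.Bijective (Algebra.ofId k (ResidueField A)) := ⟨(algebraMap k (ResidueField A)).injective, hres⟩
  let c : A →ₐ[k] k := (AlgEquiv.ofBijective _ hbij).symm.toAlgHom.comp (IsScalarTower.toAlgHom k A (ResidueField A))
  have hcm : ∀ a, a - algebraMap k A (c a) ∈ maximalIdeal A := by
    intro a
    rw [← residue_eq_zero_iff]
    rw [map_sub, sub_eq_zero]
    exact ((AlgEquiv.ofBijective _ hbij).apply_symm_apply _).symm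
  let D : A →ₗ[k] k :=
    L ∘ₗ mk ∘ₗ (LinearMap.id - (Algebra.linearMap k A) ∘ₗ c.toLinearMap)
  have hD : ∀ a, D a = L (mk (a - algebraMap k A (c a))) := fun a => rfl
  have hDmul : ∀ a b, D (a * b) = c a * D b + c b * D a := by
    intro a b
    have h : mk (a * b - algebraMap k A (c (a * b))) =
        c a • mk (b - algebraMap k A (c b)) + c b • mk (a - algebraMap k A (c a)) := by
      rw [← map_smul, ← map_smul, ← map_add]
      refine Ideal.Quotient.eq.2 ?_
      rw [show a * b - algebraMap k A (c (a * b)) - (c a • (b - algebraMap k A (c b)) + c b • (a - algebraMap k A (c a))) =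
        (a - algebraMap k A (c a)) * (b - algebraMap k A (c b)) by
          rw [map_mul c, map_mul, Algebra.smul_def, Algebra.smul_def]; ring, pow_two]
      exact Ideal.mul_mem_mul (hcm a) (hcm b)
    rw [hD, h, map_add, map_smul, map_smul, ← hD, ← hD, smul_eq_mul, smul_eq_mul]
  let mk2 := Ideal.Quotient.mk (Ideal.span {(X : k[X]) ^ 2})
  have hX2 : mk2 (X * X) = 0 := Ideal.Quotient.eq_zero_iff_mem.2 (by rw [← pow_two]; exact Ideal.mem_span_singleton_self _)
  have hD1 : D 1 = 0 := by simp [hD]
  refine ⟨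
    { toFun := fun a => mk2 (C (c a) + C (D a) * X)
      map_one' := by simp [hD1]
      map_mul' := fun a b => by
        rw [← map_mul]
        refine Ideal.Quotient.eq.2 ?_
        rw [map_mul c, hDmul, C_mul, C_add, C_mul, C_mul,
          show C (c a) * C (c b) + (C (c a) * C (D b) + C (c b) * C (D a)) * X -
            (C (c a) + C (D a) * X) * (C (c b) + C (D b) * X) = -(C (D a) * C (D b)) * (X * X) by ring, ← pow_two]
        exact Ideal.mul_mem_left _ _ (Ideal.mem_span_singleton_self _)
      map_zero' := by simp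
      map_add' := fun a b => by rw [← map_add]; congr 1; simp; ring
      commutes' := fun r => by
        have : D (algebraMap k A r) = 0 := by
          rw [Algebra.algebraMap_eq_smul_one, map_smul, hD1, smul_zero]
        simp [this]; rfl }, fun i => ⟨C (c (x i)) + C (D (x i)) * X, rfl, ?_, ?_⟩⟩
  · have : c (x i) = 0 := by
      apply (AlgEquiv.ofBijective _ hbij).injective
      rw [map_zero]
      exact ((AlgEquiv.ofBijective _ hbij).apply_symm_apply _).trans ((residue_eq_zero_iff _).2 (hx i))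
    simp [this]
  · have : c (x i) = 0 := by
      apply (AlgEquiv.ofBijective _ hbij).injective
      rw [map_zero]
      exact ((AlgEquiv.ofBijective _ hbij).apply_symm_apply _).trans ((residue_eq_zero_iff _).2 (hx i))
    simp [hD, this, hLx]

/-- No form in independent tangent parameters vanishes to higher order. -/
theorem form_eq_zero [Infinite k] (hres : Function.Surjective (algebraMap k (ResidueField A)))
    (hlift : ∀ l : ℕ, 1 ≤ l → ∀ φ : A →ₐ[k] Jet k l, (∀ a ∈ maximalIdeal A, IsNilpotent (φ a)) →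
      ∃ ψ : A →ₐ[k] Jet k (l + 1), (Ideal.Quotient.factorₐ k
        (Ideal.span_singleton_le_span_singleton.mpr (pow_dvd_pow (X : k[X]) (Nat.le_succ l)))).comp ψ = φ)
    {d : ℕ} (x : Fin d → A) (hx : ∀ i, x i ∈ maximalIdeal A)
    (hind : ∀ c : Fin d → k, ∑ i, c i • x i ∈ maximalIdeal A ^ 2 → c = 0)
    {j : ℕ} (F : MvPolynomial (Fin d) k) (hF : F.IsHomogeneous j)
    (hmem : MvPolynomial.aeval x F ∈ maximalIdeal A ^ (j + 1)) : F = 0 := by
  refine MvPolynomial.funext fun v => ?_
  rw [map_zero]
  have hjet : ∀ m : ℕ, ∃ φ : A →ₐ[k] Jet k (m + 2), ∀ i, ∃ p : k[X],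
      φ (x i) = Ideal.Quotient.mk _ p ∧ p.coeff 0 = 0 ∧ p.coeff 1 = v i := by
    intro m
    induction m with
    | zero => exact exists_jet_two hres x hx hind v
    | succ m ih =>
      obtain ⟨φ, hφ⟩ := ih
      obtain ⟨ψ, hψ⟩ := hlift (m + 2) (by omega) φ fun a ha => by
        obtain ⟨q, hq⟩ := exists_X_mul hres (by omega : 1 ≤ m + 2) φ ha
        exact ⟨m + 2, by rw [hq, ← map_pow, Ideal.Quotient.eq_zero_iff_mem, mul_pow]; exact Ideal.mul_mem_right _ _ (Ideal.mem_span_singleton_self _)⟩
      refine ⟨ψ, fun i => ?_⟩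
      obtain ⟨p, hp, h0, h1⟩ := hφ i
      obtain ⟨p', hp'⟩ := Ideal.Quotient.mk_surjective (ψ (x i))
      refine ⟨p', hp'.symm, ?_⟩
      have h2 := AlgHom.congr_fun hψ (x i)
      rw [AlgHom.comp_apply, ← hp', hp] at h2
      have h3 : (X : k[X]) ^ (m + 2) ∣ p' - p := Ideal.mem_span_singleton.1 (Ideal.Quotient.eq.1 h2)
      rw [X_pow_dvd_iff] at h3
      refine ⟨?_, ?_⟩
      · have := h3 0 (by omega); rw [coeff_sub, sub_eq_zero] at this; exact this.trans h0
      · have := h3 1 (by omega); rw [coeff_sub, sub_eq_zero] at this; exact this.trans h1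
  obtain ⟨φ, hφ⟩ := hjet j
  choose p hp h0 h1 using hφ
  choose q hq using fun i => X_dvd_iff.2 (h0 i)
  have hval : φ (MvPolynomial.aeval x F) = Ideal.Quotient.mk _ (MvPolynomial.aeval (fun i => X * q i) F) := by
    rw [MvPolynomial.comp_aeval_apply, ← Ideal.Quotient.mkₐ_eq_mk k, MvPolynomial.comp_aeval_apply]
    exact congrArg (fun g : Fin d → Jet k (j + 2) => MvPolynomial.aeval g F) (funext fun i => (hp i).trans (by rw [hq i]; rfl))
  have hhom : MvPolynomial.aeval (fun i => X * q i) F = X ^ j * MvPolynomial.aeval q F := by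
    conv_lhs => rw [F.as_sum]
    conv_rhs => rw [F.as_sum]
    rw [map_sum, map_sum, Finset.mul_sum]
    refine Finset.sum_congr rfl fun e he => ?_
    have hdeg : ∑ i, e i = j := by
      rw [← hF (MvPolynomial.mem_support_iff.1 he), Finsupp.weight_apply,
        Finsupp.sum_fintype _ _ (fun i => zero_smul ℕ ((1 : Fin d → ℕ) i))]
      simp
    rw [MvPolynomial.aeval_monomial, MvPolynomial.aeval_monomial, Finsupp.prod_fintype _ _ (fun i => pow_zero _),
      Finsupp.prod_fintype _ _ (fun i => pow_zero _)]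
    simp only [mul_pow, Finset.prod_mul_distrib, Finset.prod_pow_eq_pow_sum, hdeg]
    ring
  have h := map_pow_maximalIdeal hres (by omega) φ (j + 1) hmem
  obtain ⟨w, hw⟩ := Ideal.mem_span_singleton.1 h
  obtain ⟨w, rfl⟩ := Ideal.Quotient.mk_surjective w
  rw [hval, hhom, ← map_mul, Ideal.Quotient.eq, Ideal.mem_span_singleton] at hw
  have hdvd : (X : k[X]) ^ j * X ∣ X ^ j * MvPolynomial.aeval q F := by
    rw [← pow_succ]
    have h4 := ((pow_dvd_pow (X : k[X]) (show j + 1 ≤ j + 2 by omega)).trans hw).add (dvd_mul_right (X ^ (j + 1)) w)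
    rwa [sub_add_cancel] at h4
  have h5 := X_dvd_iff.1 ((mul_dvd_mul_iff_left (pow_ne_zero _ X_ne_zero)).1 hdvd)
  rw [coeff_zero_eq_eval_zero, ← coe_aeval_eq_eval, MvPolynomial.comp_aeval_apply] at h5
  have hv : (fun i => Polynomial.aeval (0 : k) (q i)) = v := funext fun i => by
    rw [coe_aeval_eq_eval, ← coeff_zero_eq_eval_zero, ← h1 i, hq i, coeff_X_mul]
  rw [hv, MvPolynomial.aeval_eq_eval] at h5
  exact h5

omit [IsNoetherianRing A] in
/-- Finite length over a local algebra with residue field `k` bounds the dimension over `k`. -/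
theorem rank_le_length (hres : Function.Surjective (algebraMap k (ResidueField A))) {M : Type u} [AddCommGroup M]
    [Module A M] (hM : IsFiniteLength A M) [Module k M] [IsScalarTower k A M] :
    Module.Finite k M ∧ (Module.finrank k M : ℕ∞) ≤ Module.length A M := by
  rename_i hk hst
  revert hk hst
  induction hM with
  | of_subsingleton =>
    intro hk hst
    exact ⟨inferInstance, by simp [Module.finrank_zero_of_subsingleton]⟩
  | @of_simple_quotient M _ _ N _ hN ih =>
    intro hk hst
    obtain ⟨hfin, hle⟩ := ih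
    obtain ⟨I, hI, ⟨e⟩⟩ := isSimpleModule_iff_quot_maximal.1 (inferInstance : IsSimpleModule A (M ⧸ N))
    obtain rfl := IsLocalRing.eq_maximalIdeal hI
    let e' : (M ⧸ N) ≃ₗ[k] ResidueField A := e.restrictScalars k
    have hfR : Module.Finite k (ResidueField A) := Module.Finite.of_surjective (Algebra.linearMap k (ResidueField A)) hres
    have hQ : Module.Finite k (M ⧸ N) := Module.Finite.equiv e'.symm
    let qN : M →ₗ[k] (M ⧸ N) := N.mkQ.restrictScalars k
    let iN : N →ₗ[k] M := N.subtype.restrictScalars k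
    have hex : Function.Exact iN qN := LinearMap.exact_subtype_mkQ N
    have hfinM : Module.Finite k M := Module.Finite.of_exact hex (Submodule.mkQ_surjective N)
    refine ⟨hfinM, ?_⟩
    have h1 : Module.finrank k M = Module.finrank k N + Module.finrank k (M ⧸ N) := by
      have h2 := qN.finrank_range_add_finrank_ker
      rw [LinearMap.range_eq_top.2 (show Function.Surjective qN from Submodule.mkQ_surjective N), finrank_top,
        hex.linearMap_ker_eq, LinearMap.finrank_range_of_inj (show Function.Injective iN from N.injective_subtype)] at h2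
      omega
    have h3 : Module.finrank k (M ⧸ N) ≤ 1 := by
      rw [e'.finrank_eq]
      exact ((Algebra.linearMap k (ResidueField A)).finrank_le_finrank_of_surjective hres).trans
        (Module.finrank_self k).le
    rw [Module.length_eq_add_of_exact N.subtype N.mkQ N.injective_subtype (Submodule.mkQ_surjective N)
      (LinearMap.exact_subtype_mkQ N), Module.length_eq_one A (M ⧸ N), h1, Nat.cast_add]
    exact add_le_add hle (by exact_mod_cast h3)

/-- A local algebra with rational residue field along which all curvilinear jets lift is regular. -/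
theorem isRegularLocalRing_of_jets [Infinite k] (hres : Function.Surjective (algebraMap k (ResidueField A)))
    (hlift : ∀ l : ℕ, 1 ≤ l → ∀ φ : A →ₐ[k] Jet k l, (∀ a ∈ maximalIdeal A, IsNilpotent (φ a)) →
      ∃ ψ : A →ₐ[k] Jet k (l + 1), (Ideal.Quotient.factorₐ k
        (Ideal.span_singleton_le_span_singleton.mpr (pow_dvd_pow (X : k[X]) (Nat.le_succ l)))).comp ψ = φ) :
    IsRegularLocalRing A := by
  classical
  let m := maximalIdeal A
  let d := m.spanFinrank
  have hfg : m.FG := IsNoetherian.noetherian m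
  have hncard : m.generators.ncard = d := Submodule.FG.generators_ncard hfg
  have hfin : Finite m.generators := (Submodule.FG.finite_generators hfg).to_subtype
  let e : Fin d ≃ m.generators := ((Finite.equivFin m.generators).trans (finCongr ((Nat.card_coe_set_eq _).trans hncard))).symm
  let x : Fin d → A := fun i => (e i).1
  have hxr : Set.range x = m.generators := by
    ext z; exact ⟨fun ⟨i, hi⟩ => hi ▸ (e i).2, fun hz => ⟨e.symm ⟨z, hz⟩, by simp [x]⟩⟩
  have hspan : Ideal.span (Set.range x) = m := by rw [hxr]; exact Submodule.span_generators m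
  have hx : ∀ i, x i ∈ m := fun i => hspan ▸ Ideal.subset_span ⟨i, rfl⟩
  have hind : ∀ c : Fin d → k, ∑ i, c i • x i ∈ m ^ 2 → c = 0 := by
    intro c hc
    by_contra hne
    obtain ⟨i₀, hi₀⟩ := Function.ne_iff.1 hne
    let T := Ideal.span (x '' {i | i ≠ i₀})
    have hi : x i₀ ∈ T ⊔ m ^ 2 := by
      have hsum := Finset.add_sum_erase Finset.univ (fun i => c i • x i) (Finset.mem_univ i₀)
      have h1 : x i₀ = (c i₀)⁻¹ • ((∑ i, c i • x i) - ∑ i ∈ Finset.univ.erase i₀, c i • x i) := by
        rw [← hsum, add_sub_cancel_right, smul_smul, inv_mul_cancel₀ hi₀, one_smul]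
      rw [h1]
      refine Submodule.smul_of_tower_mem _ _ (sub_mem (Ideal.mem_sup_right hc) (Ideal.mem_sup_left
        (sum_mem fun i hi => Submodule.smul_of_tower_mem _ _ (Ideal.subset_span ⟨i, ?_, rfl⟩))))
      simpa using hi
    have hle : m ≤ T ⊔ m • m := by
      refine hspan.ge.trans (Ideal.span_le.2 ?_)
      rintro _ ⟨i, rfl⟩
      rcases eq_or_ne i i₀ with rfl | h
      · rw [Ideal.smul_eq_mul, ← pow_two]; exact hi
      · exact Ideal.mem_sup_left (Ideal.subset_span ⟨i, h, rfl⟩)
    have hmT : m ≤ T := Submodule.le_of_le_smul_of_le_jacobson_bot hfg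
      (by rw [IsLocalRing.jacobson_eq_maximalIdeal ⊥ bot_ne_top]) hle
    have hTm : T = m := le_antisymm (Ideal.span_le.2 (by rintro _ ⟨i, -, rfl⟩; exact hx i)) hmT
    have hcard := Submodule.spanFinrank_span_le_ncard_of_finite (R := A) ((Set.toFinite {i | i ≠ i₀}).image x)
    change T.spanFinrank ≤ _ at hcard
    rw [hTm] at hcard
    have h2 : ({i | i ≠ i₀} : Set (Fin d)).ncard < d := by
      calc _ < (Set.univ : Set (Fin d)).ncard := Set.ncard_lt_ncard
            ⟨Set.subset_univ _, fun h => (show i₀ ≠ i₀ from h (Set.mem_univ i₀)) rfl⟩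
        _ = d := by simp
    exact absurd ((hcard.trans (Set.ncard_image_le (Set.toFinite _))).trans_lt h2) (lt_irrefl _)
  refine IsRegularLocalRing.of_spanFinrank_maximalIdeal_le A ?_
  by_contra hlt
  rw [not_le] at hlt
  have hne : ringKrullDim A ≠ ⊥ := ringKrullDim_ne_bot
  obtain ⟨q, hq⟩ := WithBot.ne_bot_iff_exists.1 hne
  rw [← hq] at hlt
  have hqd : q < (d : ℕ∞) := WithBot.coe_lt_coe.1 hlt
  obtain ⟨f, hf⟩ := ENat.ne_top_iff_exists.1 (ne_top_of_lt hqd)
  rw [← hf, Nat.cast_lt] at hqd
  haveI : IsArtinianRing (A ⧸ m) := by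
    letI := Ideal.Quotient.field m
    infer_instance
  obtain ⟨y, hy, hyfin⟩ := HilbSam.exists_parameters m (IsLocalRing.maximalIdeal_le_jacobson ⊥) f A
    (by rw [Module.supportDim_self_eq_ringKrullDim, ← hq, ← hf]; rfl)
  obtain ⟨C, hC⟩ := HilbSam.grow_of_isFiniteLength m f A y hy hyfin
  -- many independent monomials
  have hlow : ∀ t : ℕ, t ^ d ≤ HilbSam.hs A m (d * t) := by
    intro t
    let N := d * t
    let Q := A ⧸ (m ^ N • ⊤ : Submodule A A)
    have hlen := HilbSam.length_quotient_ne_top (M := A) m N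
    obtain ⟨hfinQ, hrank⟩ := rank_le_length (k := k) hres (M := Q) (Module.length_ne_top_iff.1 hlen)
    have hdeg : ∀ a : Fin d → Fin t, ∑ i, (a i : ℕ) < N ∨ d = 0 := by
      intro a
      rcases Nat.eq_zero_or_pos d with h | h
      · exact Or.inr h
      refine Or.inl ?_
      calc ∑ i, (a i : ℕ) < ∑ _i : Fin d, t := Finset.sum_lt_sum_of_nonempty
            (Finset.univ_nonempty_iff.2 ⟨⟨0, h⟩⟩) fun i _ => (a i).2
        _ = N := by simp [N]
    let ex : (Fin d → Fin t) → (Fin d →₀ ℕ) := fun a => Finsupp.equivFunOnFinite.symm fun i => (a i : ℕ)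
    have hexinj : Function.Injective ex := fun a b hab => funext fun i => Fin.ext (by
      simpa [ex] using DFunLike.congr_fun hab i)
    let mon : (Fin d → Fin t) → Q := fun a => Submodule.Quotient.mk (∏ i, x i ^ (a i : ℕ))
    have hli : LinearIndependent k mon := by
      rw [Fintype.linearIndependent_iff]
      intro c hc
      have hc' : ∑ a, c a • (∏ i, x i ^ (a i : ℕ)) ∈ m ^ N := by
        have h1 : (Submodule.Quotient.mk (∑ a, c a • (∏ i, x i ^ (a i : ℕ))) : Q) = 0 := by
          rw [← hc]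
          exact map_sum ((m ^ N • ⊤ : Submodule A A).mkQ.restrictScalars k) _ _ |>.trans
            (Finset.sum_congr rfl fun a _ => map_smul ((m ^ N • ⊤ : Submodule A A).mkQ.restrictScalars k) (c a) _)
        rw [Submodule.Quotient.mk_eq_zero, smul_eq_mul, Ideal.mul_top] at h1
        exact h1
      by_contra hne'
      push Not at hne'
      obtain ⟨a₀, ha₀⟩ := hne'
      have hNd : ∀ a : Fin d → Fin t, d ≠ 0 → ∑ i, (a i : ℕ) < N := fun a h => (hdeg a).resolve_right h
      rcases Nat.eq_zero_or_pos d with hd0 | hd0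
      · omega
      let P := fun j => ∃ a : Fin d → Fin t, c a ≠ 0 ∧ ∑ i, (a i : ℕ) = j
      have hP : ∃ j, P j := ⟨_, a₀, ha₀, rfl⟩
      let j := Nat.find hP
      obtain ⟨a₁, ha₁, ha₁j⟩ := Nat.find_spec hP
      let F : MvPolynomial (Fin d) k :=
        ∑ a ∈ Finset.univ.filter (fun a : Fin d → Fin t => ∑ i, (a i : ℕ) = j), MvPolynomial.monomial (ex a) (c a)
      have hFh : F.IsHomogeneous j := by
        refine MvPolynomial.IsHomogeneous.sum _ _ _ fun a ha => MvPolynomial.isHomogeneous_monomial _ ?_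
        rw [Finsupp.degree_eq_sum]
        simpa [ex] using (Finset.mem_filter.1 ha).2
      have hFx : MvPolynomial.aeval x F ∈ m ^ (j + 1) := by
        have h1 : MvPolynomial.aeval x F =
            ∑ a ∈ Finset.univ.filter (fun a : Fin d → Fin t => ∑ i, (a i : ℕ) = j), c a • (∏ i, x i ^ (a i : ℕ)) := by
          simp only [F, map_sum, MvPolynomial.aeval_monomial, Algebra.smul_def]
          refine Finset.sum_congr rfl fun a _ => ?_
          rw [Finsupp.prod_fintype _ _ (fun i => pow_zero _)]
          simp [ex]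
        have h2 := Finset.sum_filter_add_sum_filter_not Finset.univ (fun a : Fin d → Fin t => ∑ i, (a i : ℕ) = j)
          (fun a => c a • (∏ i, x i ^ (a i : ℕ)))
        rw [h1, eq_sub_of_add_eq h2]
        refine sub_mem (Ideal.pow_le_pow_right ?_ hc') (sum_mem fun a ha => ?_)
        · have := hNd a₁ (by omega)
          omega
        rcases eq_or_ne (c a) 0 with h | h
        · rw [h, zero_smul]; exact zero_mem _
        refine Submodule.smul_of_tower_mem _ _ ?_
        have hge : j + 1 ≤ ∑ i, (a i : ℕ) := by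
          have h3 := Nat.find_min' hP ⟨a, h, rfl⟩
          have h4 := (Finset.mem_filter.1 ha).2
          omega
        refine Ideal.pow_le_pow_right hge ?_
        rw [← Finset.prod_pow_eq_pow_sum]
        exact Ideal.prod_mem_prod fun i _ => Ideal.pow_mem_pow (hx i) _
      have h0 := form_eq_zero hres hlift x hx hind F hFh hFx
      have hcoef := congrArg (MvPolynomial.coeff (ex a₁)) h0
      rw [MvPolynomial.coeff_sum, Finset.sum_eq_single a₁] at hcoef
      · exact ha₁ (by simpa using hcoef)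
      · intro b _ hb
        rw [MvPolynomial.coeff_monomial, if_neg (fun h => hb (hexinj h))]
      · intro h
        exact absurd (Finset.mem_filter.2 (show a₁ ∈ Finset.univ ∧ _ from ⟨Finset.mem_univ a₁, ha₁j⟩)) h
    have h2 := hli.fintype_card_le_finrank
    rw [Fintype.card_fun, Fintype.card_fin, Fintype.card_fin] at h2
    have h3 : (HilbSam.hs A m N : ℕ∞) = Module.length A Q := HilbSam.coe_hs m N
    rw [← h3, Nat.cast_le] at hrank
    exact h2.trans hrank
  let t := C * (2 * d) ^ f + 1
  have hd1 : 1 ≤ d := by omega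
  have h1 := (hlow t).trans (hC (d * t))
  have h2 : (d * t + 1) ^ f ≤ (2 * d) ^ f * t ^ f := by
    rw [← mul_pow]
    refine Nat.pow_le_pow_left ?_ f
    have : 1 ≤ d * t := Nat.mul_pos hd1 (Nat.succ_pos _)
    rw [mul_assoc, two_mul]
    omega
  have h3 : t * t ^ f ≤ (t - 1) * t ^ f := by
    calc t * t ^ f = t ^ (f + 1) := by rw [pow_succ, mul_comm]
      _ ≤ t ^ d := Nat.pow_le_pow_right (Nat.succ_pos _) hqd
      _ ≤ C * (d * t + 1) ^ f := h1
      _ ≤ C * ((2 * d) ^ f * t ^ f) := Nat.mul_le_mul_left _ h2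
      _ = (t - 1) * t ^ f := by rw [← mul_assoc]; rfl
  have h4 := Nat.le_of_mul_le_mul_right h3 (Nat.pow_pos (Nat.succ_pos _))
  omega

end Groth.Agent.ArtLift.Jets

namespace Groth.Agent.ArtLift.Jets

open IsLocalRing Polynomial

variable (k : Type u) [Field k]

theorem isLocalRing_jet {l : ℕ} (hl : 1 ≤ l) : IsLocalRing (Jet k l) := by
  have : Nontrivial (Jet k l) := Ideal.Quotient.nontrivial_iff.2 fun h => by
    rw [Ideal.eq_top_iff_one, Ideal.mem_span_singleton, ← isUnit_iff_dvd_one, isUnit_pow_iff (by omega)] at h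
    exact not_isUnit_X h
  refine IsLocalRing.of_isUnit_or_isUnit_one_sub_self fun a => ?_
  obtain ⟨p, rfl⟩ := Ideal.Quotient.mk_surjective a
  obtain ⟨q, hq⟩ := X_dvd_iff.2 (show (p - C (p.coeff 0)).coeff 0 = 0 by simp)
  have hnil : IsNilpotent (Ideal.Quotient.mk (Ideal.span {(X : k[X]) ^ l}) (X * q)) :=
    ⟨l, by rw [← map_pow, Ideal.Quotient.eq_zero_iff_mem, mul_pow]; exact Ideal.mul_mem_right _ _ (Ideal.mem_span_singleton_self _)⟩
  rw [← hq, map_sub] at hnil
  rcases eq_or_ne (p.coeff 0) 0 with h | h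
  · refine Or.inr ?_
    rw [h, map_zero, map_zero, sub_zero] at hnil
    exact hnil.isUnit_one_sub
  · refine Or.inl ?_
    have := hnil.isUnit_add_left_of_commute (u := Ideal.Quotient.mk (Ideal.span {(X : k[X]) ^ l}) (C (p.coeff 0)))
      (((Ne.isUnit h).map C).map _) (Commute.all _ _)
    rwa [add_sub_cancel] at this

theorem finite_jet (l : ℕ) : Module.Finite k (Jet k l) :=
  (monic_X_pow l).finite_adjoinRoot

/-- The kernel of truncation squares to zero. -/
theorem ker_factor_sq {l : ℕ} (hl : 1 ≤ l) :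
    RingHom.ker (Ideal.Quotient.factorₐ k
      (Ideal.span_singleton_le_span_singleton.mpr (pow_dvd_pow (X : k[X]) (Nat.le_succ l))) :
        Jet k (l + 1) →ₐ[k] Jet k l) ^ 2 = ⊥ := by
  refine le_bot_iff.1 ?_
  rw [pow_two, Ideal.mul_le]
  intro a ha b hb
  obtain ⟨p, rfl⟩ := Ideal.Quotient.mk_surjective a
  obtain ⟨q, rfl⟩ := Ideal.Quotient.mk_surjective b
  rw [Ideal.mem_bot, ← map_mul, Ideal.Quotient.eq_zero_iff_mem, Ideal.mem_span_singleton]
  have h1 : (X : k[X]) ^ l ∣ p := Ideal.mem_span_singleton.1 (Ideal.Quotient.eq_zero_iff_mem.1 ha)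
  have h2 : (X : k[X]) ^ l ∣ q := Ideal.mem_span_singleton.1 (Ideal.Quotient.eq_zero_iff_mem.1 hb)
  exact (pow_dvd_pow X (by omega : l + 1 ≤ l + l)).trans (by rw [pow_add]; exact mul_dvd_mul h1 h2)

end Groth.Agent.ArtLift.Jets
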