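import Groth.Agent.ArtLift.Basic
import Groth.Agent.KoszulExt.Complex
import Groth.Agent.CAlgH.ArtFlatSeq

/-!
# Lifting Koszul-exact sequences over Artinian local rings
-/

noncomputable section

universe u

namespace Groth.Agent.ArtLift

open KoszulExt CAlgH.ArtFlat

section Coeff

variable {P Q : Type u} [CommRing P] [CommRing Q] [Algebra P Q] {n : ℕ}

variable (Q n) in
/-- Coefficientwise map `⋀ P^n → ⋀ Q^n`. -/
def tau : ExteriorAlgebra P (Fin n → P) →ₐ[P] ExteriorAlgebra Q (Fin n → Q) :=
  ExteriorAlgebra.lift P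
    ⟨(ExteriorAlgebra.ι Q).restrictScalars P ∘ₗ (Algebra.linearMap P Q).compLeft (Fin n),
      fun _ => ExteriorAlgebra.ι_sq_zero _⟩

lemma tau_ι (v : Fin n → P) : tau Q n (ExteriorAlgebra.ι P v) =
    ExteriorAlgebra.ι Q (fun i => algebraMap P Q (v i)) :=
  ExteriorAlgebra.lift_ι_apply P _ _ v

lemma tau_mem {k : ℕ} {x : ExteriorAlgebra P (Fin n → P)} (hx : x ∈ G P n k) : tau Q n x ∈ G Q n k :=
  G_induction (C := fun k x => tau Q n x ∈ G Q n k)
    (fun a => by
      rw [AlgHom.commutes, IsScalarTower.algebraMap_apply P Q (ExteriorAlgebra Q (Fin n → Q)),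
        G, ExteriorAlgebra.exteriorPower, pow_zero, Submodule.one_eq_range]
      exact ⟨_, rfl⟩)
    (fun k x y hx hy => by rw [map_add]; exact add_mem hx hy)
    (fun k v x _ h => by rw [map_mul, tau_ι]; exact ι_mul_mem _ h) hx

lemma ct_tau (f : Fin n → P) (x : ExteriorAlgebra P (Fin n → P)) :
    ct (fun i => algebraMap P Q (f i)) (tau Q n x) = tau Q n (ct f x) := by
  induction x using CliffordAlgebra.left_induction with
  | algebraMap a =>
    rw [ct_algebraMap, AlgHom.commutes, IsScalarTower.algebraMap_apply P Q (ExteriorAlgebra Q (Fin n → Q)),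
      ct_algebraMap, map_zero]
  | add a b ha hb => rw [map_add, map_add, map_add, map_add, ha, hb]
  | ι_mul a v ha =>
    change ct _ (tau Q n (ExteriorAlgebra.ι P v * a)) = tau Q n (ct f (ExteriorAlgebra.ι P v * a))
    rw [map_mul, tau_ι, ct_ι_mul, ct_ι_mul, ha, map_sub, map_smul, map_mul, tau_ι]
    congr 1
    simp_rw [← map_mul, ← map_sum]
    exact algebraMap_smul _ _ _

variable (Q) in
/-- `tau` in degree `k`. -/
def tauk (k : ℕ) : G P n k →ₗ[P] G Q n k where
  toFun := fun x => (⟨tau Q n (x : ExteriorAlgebra P (Fin n → P)), tau_mem x.2⟩ : G Q n k)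
  map_add' x y := Subtype.ext (by simp)
  map_smul' c x := Subtype.ext (by simp)

lemma dk_tauk (f : Fin n → P) (k : ℕ) (x : G P n (k + 1)) :
    dk (fun i => algebraMap P Q (f i)) k (tauk Q (k + 1) x) = tauk Q k (dk f k x) :=
  Subtype.ext (ct_tau (Q := Q) f (x : ExteriorAlgebra P (Fin n → P)))

lemma tauk_basis (k : ℕ) (s : Set.powersetCard (Fin n) k) :
    tauk Q k ((Pi.basisFun P (Fin n)).exteriorPower k s) = (Pi.basisFun Q (Fin n)).exteriorPower k s := by
  refine Subtype.ext ?_
  change tau Q n (((Pi.basisFun P (Fin n)).exteriorPower k s : G P n k) : ExteriorAlgebra P (Fin n → P)) = _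
  simp only [exteriorPower.basis_apply, exteriorPower.ιMulti_family_apply_coe,
    ExteriorAlgebra.ιMulti_family, ExteriorAlgebra.ιMulti_apply, map_list_prod, List.map_ofFn]
  refine congrArg List.prod (congrArg List.ofFn (funext fun i => ?_))
  refine (tau_ι _).trans (congrArg _ (funext fun j => ?_))
  simp [Pi.single_apply, apply_ite (algebraMap P Q)]

lemma repr_tauk (k : ℕ) (x : G P n k) (s : Set.powersetCard (Fin n) k) :
    ((Pi.basisFun Q (Fin n)).exteriorPower k).repr (tauk Q k x) s =
      algebraMap P Q (((Pi.basisFun P (Fin n)).exteriorPower k).repr x s) := by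
  classical
  conv_lhs => rw [← ((Pi.basisFun P (Fin n)).exteriorPower k).sum_repr x]
  simp only [map_sum, map_smul, tauk_basis, Finsupp.coe_finset_sum, Finset.sum_apply]
  rw [Finset.sum_eq_single s]
  · rw [← algebraMap_smul Q, map_smul]; simp [Algebra.algebraMap_eq_smul_one]
  · intro t _ hts
    rw [← algebraMap_smul Q, map_smul]
    simp [hts]
  · simp

lemma tauk_surjective (h : Function.Surjective (algebraMap P Q)) (k : ℕ) :
    Function.Surjective (tauk (P := P) (n := n) Q k) := by
  classical
  intro z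
  choose c hc using fun s => h (((Pi.basisFun Q (Fin n)).exteriorPower k).repr z s)
  refine ⟨∑ s, c s • (Pi.basisFun P (Fin n)).exteriorPower k s, ?_⟩
  simp only [map_sum, map_smul, tauk_basis, ← algebraMap_smul Q (c _), hc]
  exact ((Pi.basisFun Q (Fin n)).exteriorPower k).sum_repr z

end Coeff

section Lift

variable {A R : Type u} [CommRing A] [CommRing R] [Algebra A R] {n : ℕ}

omit n in
theorem flat_free [Module.Flat A R] (M : Type u) [AddCommGroup M] [Module R M] [Module.Free R M]
    [Module A M] [IsScalarTower A R M] : Module.Flat A M :=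
  Module.Flat.trans A R M

lemma tauk_eq_zero (I : Ideal A) (k : ℕ) (x : G R n k)
    (h : tauk (R ⧸ I.map (algebraMap A R)) k x = 0) : x ∈ (I • ⊤ : Submodule A (G R n k)) := by
  classical
  rw [← mem_map_smul_top_iff (S := R), ← ((Pi.basisFun R (Fin n)).exteriorPower k).sum_repr x]
  refine Submodule.sum_mem _ fun s _ => Submodule.smul_mem_smul ?_ Submodule.mem_top
  rw [← Ideal.Quotient.eq_zero_iff_mem]
  have := repr_tauk (Q := R ⧸ I.map (algebraMap A R)) k x s
  rw [h, map_zero, Finsupp.zero_apply] at this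
  exact this.symm

lemma tauk_smul_top (I : Ideal A) (k : ℕ) {x : G R n k} (h : x ∈ (I • ⊤ : Submodule A (G R n k))) :
    tauk (R ⧸ I.map (algebraMap A R)) k x = 0 := by
  rw [← mem_map_smul_top_iff (S := R)] at h
  refine Submodule.smul_induction_on h (fun r hr y _ => ?_) (fun a b ha hb => by rw [map_add, ha, hb, add_zero])
  rw [map_smul, ← algebraMap_smul (R ⧸ I.map (algebraMap A R)) r, Ideal.Quotient.algebraMap_eq,
    Ideal.Quotient.eq_zero_iff_mem.2 hr, zero_smul]

variable [IsLocalRing A] [IsArtinianRing A]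

/-- Koszul exactness modulo a proper ideal lifts to Koszul exactness and flat cokernels. -/
theorem isExact_and_flat [Module.Flat A R] {I : Ideal A} (hI : I ≠ ⊤) (f : Fin n → R)
    (hf : IsExact fun i => Ideal.Quotient.mk (I.map (algebraMap A R)) (f i)) :
    IsExact f ∧ Module.Flat A (G R n 0 ⧸ LinearMap.range ((dk f 0).restrictScalars A)) := by
  let Q := R ⧸ I.map (algebraMap A R)
  let d (k : ℕ) : G R n (k + 1) →ₗ[A] G R n k := (dk f k).restrictScalars A
  have hflat : ∀ k, Module.Flat A (G R n k) := fun k => by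
    have : Module.Free R (G R n k) := Module.Free.of_basis ((Pi.basisFun R (Fin n)).exteriorPower k)
    exact flat_free (R := R) _
  suffices h : ∀ j k, n ≤ k + j → Function.Exact (d (k + 1)) (d k) ∧
      Module.Flat A (G R n k ⧸ LinearMap.range (d k)) from
    ⟨fun k => (h n k (Nat.le_add_left _ _)).1, (h n 0 (Nat.le_add_left _ _)).2⟩
  intro j
  induction j with
  | zero =>
    intro k hk
    have : Subsingleton (G R n (k + 1)) := by
      rw [G_eq_bot_of_lt (by omega)]; infer_instance
    refine ⟨fun x => ⟨fun _ => ⟨0, Subsingleton.elim _ _⟩, fun _ => by rw [Subsingleton.elim x 0, map_zero]⟩, ?_⟩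
    have h0 : LinearMap.range (d k) = ⊥ := by
      rw [LinearMap.range_eq_bot]; ext x; rw [Subsingleton.elim x 0, map_zero, map_zero]
    have := hflat k
    exact Module.Flat.of_linearEquiv (Submodule.quotEquivOfEqBot _ h0)
  | succ j ih =>
    intro k hk
    have := (ih (k + 1) (by omega)).2
    have := hflat k
    refine exact_and_flat (LinearMap.ext fun x => dk_dk f k x) hI ?_
    intro x hx
    have h1 : dk (fun i => algebraMap R Q (f i)) k (tauk Q (k + 1) x) = 0 := by
      rw [dk_tauk]; exact tauk_smul_top I k hx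
    obtain ⟨z, hz⟩ := (hf k _).1 h1
    obtain ⟨y, rfl⟩ := tauk_surjective (P := R) (Q := Q) Ideal.Quotient.mk_surjective (k + 2) z
    refine ⟨y, tauk_eq_zero I (k + 1) _ ?_⟩
    rw [map_sub, sub_eq_zero]
    exact hz.symm.trans (dk_tauk f (k + 1) y)

omit [IsLocalRing A] [IsArtinianRing A] in
theorem flat_quotient_span (f : Fin n → R)
    [Module.Flat A (G R n 0 ⧸ LinearMap.range ((dk f 0).restrictScalars A))] :
    Module.Flat A (R ⧸ Ideal.span (Set.range f)) := by
  classical
  let e : G R n 0 ≃ₗ[R] R := exteriorPower.zeroEquiv R (Fin n → R)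
  have he : (LinearMap.range (dk f 0)).map e.toLinearMap = Ideal.span (Set.range f) := by
    refine le_antisymm ?_ (Ideal.span_le.2 ?_)
    · rw [Submodule.map_le_iff_le_comap]
      rintro _ ⟨z, rfl⟩
      have h1 : dk f 0 z ∈ Ideal.span (Set.range f) • (⊤ : Submodule R (G R n 0)) :=
        (Submodule.mem_smul_top_iff _ _ _).2 (ct_mem_span f _ z.2)
      refine Submodule.smul_induction_on h1 (fun r hr y _ => ?_) fun a b ha hb => add_mem ha hb
      rw [Submodule.mem_comap, map_smul]
      exact Ideal.mul_mem_right _ _ hr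
    · rintro _ ⟨i, rfl⟩
      let z : G R n 1 := ⟨ExteriorAlgebra.ι R (Pi.single i 1), by
        rw [G, ExteriorAlgebra.exteriorPower, pow_one]; exact ⟨_, rfl⟩⟩
      let one : G R n 0 := exteriorPower.ιMulti R 0 ![]
      have h1 : dk f 0 z = f i • one := by
        refine Subtype.ext ?_
        rw [dk_coe, Submodule.coe_smul, exteriorPower.ιMulti_apply_coe, ExteriorAlgebra.ιMulti_apply, List.ofFn_zero,
          List.prod_nil, ← Algebra.algebraMap_eq_smul_one]
        change ct f (ExteriorAlgebra.ι R (Pi.single i 1)) = _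
        rw [ct_ι]
        simp [Pi.single_apply]
      refine ⟨dk f 0 z, ⟨z, rfl⟩, ?_⟩
      rw [h1, LinearEquiv.coe_coe, map_smul]
      simp [e, one, exteriorPower.zeroEquiv_ιMulti]
  exact Module.Flat.of_linearEquiv
    (((Submodule.quotEquivOfEq _ _ (LinearMap.range_restrictScalars (dk f 0))).trans
      (Submodule.Quotient.restrictScalarsEquiv A (LinearMap.range (dk f 0)))).trans
      ((Submodule.Quotient.equiv _ _ e he).restrictScalars A)).symm

end Lift

end Groth.Agent.ArtLift

end
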