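import Groth.Agent.ArtLift.HilbertBurch
import Mathlib.RingTheory.Localization.Away.Basic
import Mathlib.RingTheory.Localization.AtPrime.Basic

/-!
# Spreading out a resolution by maximal minors from a prime to a basic open
-/

universe u

namespace Groth.Agent.ArtLift

variable {A : Type u} [CommRing A] (p : Ideal A) [p.IsPrime] (L : Type u) [CommRing L] [Algebra A L]
  [IsLocalization.AtPrime L p]

/-- Finitely many elements killed by the complement of `p` are killed by one element. -/
theorem exists_notMem_forall {ι : Type*} (s : Finset ι) {P : ι → A → Prop} (hP : ∀ i a b, P i a → P i (a * b))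
    (h : ∀ i ∈ s, ∃ a ∉ p, P i a) : ∃ a ∉ p, ∀ i ∈ s, P i a := by
  classical
  induction s using Finset.induction with
  | empty => exact ⟨1, fun h => Ideal.IsPrime.ne_top ‹_› ((Ideal.eq_top_iff_one _).2 h), by simp⟩
  | insert i s his ih =>
    obtain ⟨a, ha, hia⟩ := h i (Finset.mem_insert_self i s)
    obtain ⟨b, hb, hsb⟩ := ih fun j hj => h j (Finset.mem_insert_of_mem hj)
    refine ⟨a * b, fun hab => ((Ideal.IsPrime.mem_or_mem ‹_› hab).elim ha hb), ?_⟩
    intro j hj
    rcases Finset.mem_insert.1 hj with rfl | hj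
    · exact hP j a b hia
    · rw [mul_comm]; exact hP j b a (hsb j hj)

lemma minors_smul {R : Type u} [CommRing R] {r : ℕ} (c : R) (φ : Matrix (Fin (r + 1)) (Fin r) R) (i : Fin (r + 1)) :
    minors (c • φ) i = c ^ r * minors φ i := by
  simp only [minors, Matrix.submatrix_smul, Pi.smul_apply, Matrix.det_smul, Fintype.card_fin]
  ring

lemma map_mulVec_comp {R S : Type u} [CommRing R] [CommRing S] (g : R →+* S) {m n : ℕ}
    (M : Matrix (Fin m) (Fin n) R) (v : Fin n → R) :
    (M.map g).mulVec (g ∘ v) = g ∘ M.mulVec v := funext fun i => (RingHom.map_mulVec g M v i).symm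

theorem exists_spread [IsNoetherianRing A] (I : Ideal A) {r : ℕ} (φ : Matrix (Fin (r + 1)) (Fin r) L)
    (hI : Ideal.span (Set.range (minors φ)) = I.map (algebraMap A L)) (hinj : Function.Injective φ.mulVecLin)
    (hex : LinearMap.range φ.mulVecLin = LinearMap.ker (Fintype.linearCombination L (minors φ))) :
    ∃ (g : A) (ψ : Matrix (Fin (r + 1)) (Fin r) A), g ∉ p ∧ ∀ (B : Type u) [CommRing B] [Algebra A B]
      [IsLocalization.Away g B],
      Ideal.span (Set.range (minors (ψ.map (algebraMap A B)))) = I.map (algebraMap A B) ∧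
        Function.Injective (ψ.map (algebraMap A B)).mulVecLin ∧
        LinearMap.range (ψ.map (algebraMap A B)).mulVecLin =
          LinearMap.ker (Fintype.linearCombination B (minors (ψ.map (algebraMap A B)))) := by
  classical
  obtain ⟨c, hc⟩ := IsLocalization.exist_integer_multiples_of_finite p.primeCompl
    (fun ij : Fin (r + 1) × Fin r => φ ij.1 ij.2)
  choose ψ hψ using fun i j => hc (i, j)
  let Ψ : Matrix (Fin (r + 1)) (Fin r) A := Matrix.of ψ
  let u := algebraMap A L c
  have hu : IsUnit u := IsLocalization.map_units L c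
  have hmap : Ψ.map (algebraMap A L) = u • φ := by
    ext i j
    simp [Ψ, u, hψ, Algebra.smul_def]
  have hm : ∀ i, algebraMap A L (minors Ψ i) = u ^ r * minors φ i := fun i => by
    rw [map_minors, hmap, minors_smul]
  -- localization facts
  have hsp : I.map (algebraMap A L) = (Ideal.span (Set.range (minors Ψ))).map (algebraMap A L) := by
    rw [← hI, Ideal.map_span, ← Set.range_comp]
    refine le_antisymm (Ideal.span_le.2 ?_) (Ideal.span_le.2 ?_)
    · rintro _ ⟨i, rfl⟩
      refine (Ideal.unit_mul_mem_iff_mem _ (hu.pow r)).1 ?_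
      rw [← hm]
      exact Ideal.subset_span ⟨i, rfl⟩
    · rintro _ ⟨i, rfl⟩
      rw [Function.comp_apply, hm]
      exact Ideal.mul_mem_left _ _ (Ideal.subset_span ⟨i, rfl⟩)
  have hinjL : ∀ v : Fin r → A, Ψ.mulVec v = 0 → ∀ i, algebraMap A L (v i) = 0 := by
    intro v hv i
    have h1 : φ.mulVec (u • (algebraMap A L ∘ v)) = 0 := by
      rw [Matrix.mulVec_smul, ← Matrix.smul_mulVec, ← hmap, map_mulVec_comp, hv]
      ext j; simp
    have h2 := congrFun (hinj (show φ.mulVecLin (u • (algebraMap A L ∘ v)) = φ.mulVecLin 0 by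
      rw [map_zero, Matrix.mulVecLin_apply, h1])) i
    exact (hu.mul_right_eq_zero).1 h2
  have hexL : ∀ v : Fin (r + 1) → A, ∑ i, v i * minors Ψ i = 0 →
      ∃ (w : Fin r → A), ∃ t ∉ p, Ψ.mulVec w = t • v := by
    intro v hv
    have h1 : algebraMap A L ∘ v ∈ LinearMap.ker (Fintype.linearCombination L (minors φ)) := by
      rw [LinearMap.mem_ker, Fintype.linearCombination_apply]
      refine (hu.pow r).mul_right_eq_zero.1 ?_
      rw [← map_zero (algebraMap A L), ← hv, map_sum, Finset.mul_sum]
      exact Finset.sum_congr rfl fun i _ => by rw [map_mul, hm, Function.comp_apply, smul_eq_mul]; ring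
    rw [← hex] at h1
    obtain ⟨w, hw⟩ := h1
    obtain ⟨d, hd⟩ := IsLocalization.exist_integer_multiples_of_finite p.primeCompl w
    choose w' hw' using hd
    have h2 : ∀ i, algebraMap A L (Ψ.mulVec w' i) = algebraMap A L (c * d * v i) := by
      intro i
      have h3 : algebraMap A L ∘ w' = algebraMap A L d • w := funext fun j => by
        simp [hw', Algebra.smul_def]
      rw [RingHom.map_mulVec, hmap, h3, Matrix.smul_mulVec, Matrix.mulVec_smul]
      rw [show φ.mulVec w = algebraMap A L ∘ v from hw]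
      simp [u, Algebra.smul_def]
      ring
    choose s hs using fun i => (IsLocalization.eq_iff_exists p.primeCompl L).1 (h2 i)
    obtain ⟨t, ht, htall⟩ := exists_notMem_forall p (Finset.univ : Finset (Fin (r + 1)))
      (P := fun i a => a * Ψ.mulVec w' i = a * (c * d * v i))
      (fun i a b h => by rw [mul_comm a b, mul_assoc, mul_assoc, h])
      (fun i _ => ⟨s i, (s i).2, hs i⟩)
    refine ⟨t • w', t * c * d, ?_, ?_⟩
    · intro h
      rcases Ideal.IsPrime.mem_or_mem ‹_› h with h | h
      · rcases Ideal.IsPrime.mem_or_mem ‹_› h with h | h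
        · exact ht h
        · exact c.2 h
      · exact d.2 h
    · ext i
      rw [Matrix.mulVec_smul, Pi.smul_apply, Pi.smul_apply, smul_eq_mul, smul_eq_mul, htall i (Finset.mem_univ i)]
      ring
  -- the finitely many conditions
  obtain ⟨sK, hsK⟩ := IsNoetherian.noetherian (LinearMap.ker Ψ.mulVecLin)
  obtain ⟨sZ, hsZ⟩ := IsNoetherian.noetherian (LinearMap.ker (Fintype.linearCombination A (minors Ψ)))
  obtain ⟨sI, hsI⟩ := IsNoetherian.noetherian I
  let T := Ideal.span (Set.range (minors Ψ))
  have hone : ∀ (J J' : Ideal A), J.map (algebraMap A L) ≤ J'.map (algebraMap A L) → ∀ x ∈ J, ∃ a ∉ p, a * x ∈ J' := by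
    intro J J' hle x hx
    obtain ⟨⟨y, s⟩, hy⟩ := (IsLocalization.mem_map_algebraMap_iff p.primeCompl L).1 (hle (Ideal.mem_map_of_mem _ hx))
    rw [← map_mul, IsLocalization.eq_iff_exists p.primeCompl L] at hy
    obtain ⟨t, ht⟩ := hy
    refine ⟨t * s, fun h => (Ideal.IsPrime.mem_or_mem ‹_› h).elim t.2 s.2, ?_⟩
    rw [show (t : A) * s * x = t * (x * s) by ring, ht]
    exact Ideal.mul_mem_left _ _ y.2
  obtain ⟨a₁, ha₁, h₁⟩ := exists_notMem_forall p sI (P := fun x a => a * x ∈ T)
    (fun x a b h => by rw [mul_comm a b, mul_assoc]; exact Ideal.mul_mem_left _ _ h)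
    (fun x hx => hone I T hsp.le x (hsI ▸ Submodule.subset_span hx))
  obtain ⟨a₂, ha₂, h₂⟩ := exists_notMem_forall p (Finset.univ : Finset (Fin (r + 1))) (P := fun i a => a * minors Ψ i ∈ I)
    (fun x a b h => by rw [mul_comm a b, mul_assoc]; exact Ideal.mul_mem_left _ _ h)
    (fun i _ => hone T I hsp.ge _ (Ideal.subset_span ⟨i, rfl⟩))
  obtain ⟨a₃, ha₃, h₃⟩ := exists_notMem_forall p (sK ×ˢ (Finset.univ : Finset (Fin r)))
    (P := fun z a => a * z.1 z.2 = 0) (fun x a b h => by rw [mul_comm a b, mul_assoc, h, mul_zero])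
    (fun z hz => by
      obtain ⟨t, ht⟩ := (IsLocalization.map_eq_zero_iff p.primeCompl L _).1
        (hinjL z.1 (LinearMap.mem_ker.1 (hsK ▸ Submodule.subset_span (Finset.mem_product.1 hz).1)) z.2)
      exact ⟨t, t.2, ht⟩)
  obtain ⟨a₄, ha₄, h₄⟩ := exists_notMem_forall p sZ (P := fun v a => a • v ∈ LinearMap.range Ψ.mulVecLin)
    (fun x a b h => by rw [mul_comm a b, mul_smul]; exact Submodule.smul_mem _ _ h)
    (fun v hv => by
      have hv' := LinearMap.mem_ker.1 (hsZ ▸ Submodule.subset_span hv :
        v ∈ LinearMap.ker (Fintype.linearCombination A (minors Ψ)))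
      rw [Fintype.linearCombination_apply] at hv'
      obtain ⟨w, t, ht, hw⟩ := hexL v hv'
      exact ⟨t, ht, w, hw⟩)
  refine ⟨a₁ * a₂ * a₃ * a₄, Ψ, fun h => ?_, ?_⟩
  · rcases Ideal.IsPrime.mem_or_mem ‹_› h with h | h
    · rcases Ideal.IsPrime.mem_or_mem ‹_› h with h | h
      · exact (Ideal.IsPrime.mem_or_mem ‹_› h).elim ha₁ ha₂
      · exact ha₃ h
    · exact ha₄ h
  intro B _ _ _
  have hg : IsUnit (algebraMap A B (a₁ * a₂ * a₃ * a₄)) := IsLocalization.Away.algebraMap_isUnit _
  simp only [map_mul, IsUnit.mul_iff] at hg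
  obtain ⟨⟨⟨hu₁, hu₂⟩, hu₃⟩, hu₄⟩ := hg
  have hmin : minors (Ψ.map (algebraMap A B)) = algebraMap A B ∘ minors Ψ := funext fun i => (map_minors _ _ i).symm
  let M := Submonoid.powers (a₁ * a₂ * a₃ * a₄)
  have hclear : ∀ {m : ℕ} (v : Fin m → B), ∃ (v₀ : Fin m → A) (s : B), IsUnit s ∧ algebraMap A B ∘ v₀ = s • v := by
    intro m v
    obtain ⟨d, hd⟩ := IsLocalization.exist_integer_multiples_of_finite M v
    choose v₀ hv₀ using hd
    exact ⟨v₀, algebraMap A B d, IsLocalization.map_units B d, funext fun i => by simp [hv₀, Algebra.smul_def]⟩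
  refine ⟨?_, ?_, ?_⟩
  · rw [hmin, Set.range_comp, ← Ideal.map_span]
    refine le_antisymm ?_ ?_
    · rw [Ideal.map_span, ← Set.range_comp, Ideal.span_le]
      rintro _ ⟨i, rfl⟩
      refine (Ideal.unit_mul_mem_iff_mem _ hu₂).1 ?_
      rw [Function.comp_apply, ← map_mul]
      exact Ideal.mem_map_of_mem _ (h₂ i (Finset.mem_univ i))
    · rw [← hsI, Submodule.span, ← Submodule.span, Ideal.map_span, Ideal.span_le]
      rintro _ ⟨x, hx, rfl⟩
      refine (Ideal.unit_mul_mem_iff_mem _ hu₁).1 ?_
      rw [← map_mul]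
      exact Ideal.mem_map_of_mem _ (h₁ x hx)
  · rw [injective_iff_map_eq_zero]
    intro v hv
    obtain ⟨v₀, s, hs, hv₀⟩ := hclear v
    have h0 : algebraMap A B ∘ Ψ.mulVec v₀ = 0 := by
      rw [← map_mulVec_comp, hv₀, Matrix.mulVec_smul, ← Matrix.mulVecLin_apply, hv, smul_zero]
    obtain ⟨d, hd⟩ := IsLocalization.exist_integer_multiples_of_finite M (fun _ : Fin 1 => (1 : B))
    choose t ht using fun i => (IsLocalization.map_eq_zero_iff M B _).1 (congrFun h0 i)
    have hkill : ∀ z ∈ LinearMap.ker Ψ.mulVecLin, ∀ j, algebraMap A B (z j) = 0 := by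
      intro z hz j
      rw [← hsK] at hz
      induction hz using Submodule.span_induction with
      | mem z hz =>
        refine hu₃.mul_right_eq_zero.1 ?_
        rw [← map_mul, h₃ (z, j) (Finset.mem_product.2 ⟨hz, Finset.mem_univ j⟩), map_zero]
      | zero => simp
      | add x y _ _ hx hy => simp [hx, hy]
      | smul a x _ hx => simp [hx]
    let T' := ∏ i, (t i : A)
    have hT : T' • v₀ ∈ LinearMap.ker Ψ.mulVecLin := by
      rw [LinearMap.mem_ker, map_smul, Matrix.mulVecLin_apply]
      ext i
      rw [Pi.smul_apply, Pi.zero_apply, smul_eq_mul]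
      obtain ⟨q, hq⟩ := Finset.dvd_prod_of_mem (fun i => (t i : A)) (Finset.mem_univ i)
      rw [show T' = (t i : A) * q from hq, mul_right_comm, ht i, zero_mul]
    ext j
    have h1 := hkill _ hT j
    rw [Pi.smul_apply, smul_eq_mul, map_mul] at h1
    have h2 : algebraMap A B (v₀ j) = 0 :=
      ((IsLocalization.map_units B (∏ i, t i : M)).mul_right_eq_zero).1 (by simpa [T', Submonoid.coe_finsetProd] using h1)
    rw [show algebraMap A B (v₀ j) = s * v j from congrFun hv₀ j] at h2
    exact hs.mul_right_eq_zero.1 h2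
  · refine le_antisymm ?_ ?_
    · rintro _ ⟨w, rfl⟩
      rw [LinearMap.mem_ker, Fintype.linearCombination_apply, Matrix.mulVecLin_apply]
      simp only [Matrix.mulVec, dotProduct, smul_eq_mul, Finset.sum_mul]
      rw [Finset.sum_comm]
      refine Finset.sum_eq_zero fun j _ => ?_
      calc ∑ i, (Ψ.map (algebraMap A B)) i j * w j * minors (Ψ.map (algebraMap A B)) i
          = w j * ∑ i, (Ψ.map (algebraMap A B)) i j * minors (Ψ.map (algebraMap A B)) i := by
            rw [Finset.mul_sum]; exact Finset.sum_congr rfl fun i _ => by ring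
        _ = 0 := by rw [sum_mul_minors, mul_zero]
    · intro v hv
      obtain ⟨v₀, s, hs, hv₀⟩ := hclear v
      have h0 : algebraMap A B (∑ i, v₀ i * minors Ψ i) = 0 := by
        rw [LinearMap.mem_ker, Fintype.linearCombination_apply] at hv
        rw [map_sum, ← mul_zero s, ← hv, Finset.mul_sum]
        refine Finset.sum_congr rfl fun i _ => ?_
        rw [map_mul, show algebraMap A B (v₀ i) = s * v i from congrFun hv₀ i, map_minors, smul_eq_mul, mul_assoc]
      obtain ⟨t, ht⟩ := (IsLocalization.map_eq_zero_iff M B _).1 h0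
      have hz : (t : A) • v₀ ∈ LinearMap.ker (Fintype.linearCombination A (minors Ψ)) := by
        rw [LinearMap.mem_ker, Fintype.linearCombination_apply, ← ht, Finset.mul_sum]
        exact Finset.sum_congr rfl fun i _ => by rw [Pi.smul_apply, smul_eq_mul, smul_eq_mul, mul_assoc]
      have hall : ∀ z ∈ LinearMap.ker (Fintype.linearCombination A (minors Ψ)),
          algebraMap A B ∘ z ∈ LinearMap.range (Ψ.map (algebraMap A B)).mulVecLin := by
        intro z hz
        rw [← hsZ] at hz
        induction hz using Submodule.span_induction with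
        | mem z hz =>
          obtain ⟨w, hw⟩ := h₄ z hz
          refine (Submodule.smul_mem_iff_of_isUnit _ hu₄).1 ⟨algebraMap A B ∘ w, ?_⟩
          rw [Matrix.mulVecLin_apply, map_mulVec_comp, show Ψ.mulVec w = a₄ • z from hw]
          ext i; simp
        | zero =>
          rw [show algebraMap A B ∘ (0 : Fin (r + 1) → A) = 0 by ext i; simp]
          exact zero_mem _
        | add x y _ _ hx hy => convert add_mem hx hy using 1; ext i; simp
        | smul a x _ hx => convert Submodule.smul_mem _ (algebraMap A B a) hx using 1; ext i; simp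
      have h1 := hall _ hz
      have he : algebraMap A B ∘ ((t : A) • v₀) = (algebraMap A B t * s) • v := funext fun i => by
        rw [Function.comp_apply, Pi.smul_apply, smul_eq_mul, map_mul, show algebraMap A B (v₀ i) = s * v i from congrFun hv₀ i]
        simp [mul_assoc]
      rw [he] at h1
      exact (Submodule.smul_mem_iff_of_isUnit _ ((IsLocalization.map_units B t).mul hs)).1 h1

end Groth.Agent.ArtLift
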