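import Groth.Agent.FlatCrit.Basic
import Mathlib.RingTheory.TensorProduct.Basic
import Mathlib.LinearAlgebra.TensorProduct.Quotient
import Mathlib.LinearAlgebra.TensorProduct.RightExactness
import Mathlib.RingTheory.Flat.Basic
import Mathlib.RingTheory.Ideal.Quotient.Operations

/-!
# Flat lifts of ideals along square-zero thickenings: the torsor structure
-/

noncomputable section

universe u

open TensorProduct

namespace Groth.Agent.ArtLift.Torsor

variable {C : Type u} [CommRing C] {A : Type u} [CommRing A] [Algebra C A] {J : Ideal C}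

/-- `a ⊗ c ↦ c a`. -/
def mulJ : A ⊗[C] J →ₗ[C] A := (TensorProduct.rid C A).toLinearMap ∘ₗ J.subtype.lTensor A

lemma mulJ_tmul (a : A) (c : J) : mulJ (a ⊗ₜ[C] c) = algebraMap C A c * a := by
  simp [mulJ, Algebra.smul_def]

lemma mulJ_smul (a : A) (z : A ⊗[C] J) : mulJ (a • z) = a * mulJ z := by
  induction z using TensorProduct.induction_on with
  | zero => simp
  | tmul b c => rw [TensorProduct.smul_tmul', mulJ_tmul, mulJ_tmul, smul_eq_mul]; ring
  | add x y hx hy => rw [smul_add, map_add, map_add, hx, hy, mul_add]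

lemma mulJ_mem (z : A ⊗[C] J) : mulJ z ∈ J.map (algebraMap C A) := by
  induction z using TensorProduct.induction_on with
  | zero => simp
  | tmul b c => rw [mulJ_tmul]; exact Ideal.mul_mem_right _ _ (Ideal.mem_map_of_mem _ c.2)
  | add x y hx hy => rw [map_add]; exact add_mem hx hy

lemma exists_mulJ_eq {x : A} (hx : x ∈ J.map (algebraMap C A)) : ∃ z : A ⊗[C] J, mulJ z = x := by
  induction hx using Submodule.span_induction with
  | mem x hx =>
    obtain ⟨c, hc, rfl⟩ := hx
    exact ⟨1 ⊗ₜ ⟨c, hc⟩, by rw [mulJ_tmul, mul_one]⟩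
  | zero => exact ⟨0, map_zero _⟩
  | add x y _ _ hx hy =>
    obtain ⟨z, rfl⟩ := hx
    obtain ⟨w, rfl⟩ := hy
    exact ⟨z + w, map_add _ _ _⟩
  | smul a x _ hx =>
    obtain ⟨z, rfl⟩ := hx
    exact ⟨a • z, mulJ_smul a z⟩

lemma mulJ_injective [Module.Flat C A] : Function.Injective (mulJ : A ⊗[C] J → A) :=
  (TensorProduct.rid C A).injective.comp
    (Module.Flat.lTensor_preserves_injective_linearMap J.subtype J.injective_subtype)

variable {B : Type u} [CommRing B] [Algebra C B] [Algebra A B] [IsScalarTower C A B]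

/-- The projection to `B ⊗ J`. -/
def projJ : A ⊗[C] J →ₗ[C] B ⊗[C] J := LinearMap.rTensor J (IsScalarTower.toAlgHom C A B).toLinearMap

lemma projJ_tmul (a : A) (c : J) : (projJ (a ⊗ₜ[C] c) : B ⊗[C] J) = algebraMap A B a ⊗ₜ[C] c := by
  simp [projJ]

lemma projJ_smul (a : A) (z : A ⊗[C] J) : (projJ (a • z) : B ⊗[C] J) = a • projJ z := by
  induction z using TensorProduct.induction_on with
  | zero => simp
  | tmul b c =>
    rw [TensorProduct.smul_tmul', projJ_tmul, projJ_tmul, TensorProduct.smul_tmul', smul_eq_mul, map_mul,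
      Algebra.smul_def]
  | add x y hx hy => rw [smul_add, map_add, map_add, hx, hy, smul_add]

lemma projJ_surjective (h : Function.Surjective (algebraMap A B)) :
    Function.Surjective (projJ : A ⊗[C] J → B ⊗[C] J) :=
  LinearMap.rTensor_surjective _ h

/-- An ideal with flat quotient killed in `B` meets `J A` only in elements killed in `B ⊗ J`. -/
lemma projJ_eq_zero {K : Ideal A} [Module.Flat C (A ⧸ K)] (hK : ∀ x ∈ K, algebraMap A B x = 0)
    {z : A ⊗[C] J} (hz : mulJ z ∈ K) : (projJ z : B ⊗[C] J) = 0 := by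
  let q : A →ₗ[C] A ⧸ K := (Ideal.Quotient.mkₐ C K).toLinearMap
  let t : A ⧸ K →ₗ[C] B := (Ideal.Quotient.liftₐ K (IsScalarTower.toAlgHom C A B) hK).toLinearMap
  have h1 : q.rTensor J z = 0 := by
    apply Module.Flat.lTensor_preserves_injective_linearMap (M := A ⧸ K) J.subtype J.injective_subtype
    apply (TensorProduct.rid C (A ⧸ K)).injective
    have hnat : ∀ w : A ⊗[C] J, TensorProduct.rid C (A ⧸ K) (J.subtype.lTensor (A ⧸ K) (q.rTensor J w)) =
        Ideal.Quotient.mk K (mulJ w) := by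
      intro w
      induction w using TensorProduct.induction_on with
      | zero => simp
      | tmul b c => simp [q, mulJ, Algebra.smul_def]
      | add x y hx hy => simp only [map_add, hx, hy]
    rw [hnat, map_zero, map_zero]
    exact Ideal.Quotient.eq_zero_iff_mem.2 hz
  have h2 : (projJ : A ⊗[C] J →ₗ[C] B ⊗[C] J) = t.rTensor J ∘ₗ q.rTensor J :=
    TensorProduct.ext' fun a c => by simp [projJ, t, q]
  rw [h2, LinearMap.comp_apply, h1, map_zero]

variable (B J) in
/-- The compatibility between two lifts and a homomorphism. -/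
def Related (I' I'' : Ideal A) (I : Ideal (A ⧸ J.map (algebraMap C A))) (φ : I →ₗ[A] B ⊗[C] J) : Prop :=
  ∀ (x : A ⧸ J.map (algebraMap C A)) (hx : x ∈ I) (x' x'' : A), x' ∈ I' → x'' ∈ I'' →
    Ideal.Quotient.mk (J.map (algebraMap C A)) x' = x → Ideal.Quotient.mk (J.map (algebraMap C A)) x'' = x →
    ∀ z : A ⊗[C] J, mulJ z = x'' - x' → projJ z = φ ⟨x, hx⟩

variable [Module.Flat C A] (I : Ideal (A ⧸ J.map (algebraMap C A)))
  (hB : ∀ a, algebraMap A B a = 0 ↔ Ideal.Quotient.mk (J.map (algebraMap C A)) a ∈ I)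

include hB in
theorem existsUnique_related (I' I'' : Ideal A) [Module.Flat C (A ⧸ I')] [Module.Flat C (A ⧸ I'')]
    (hI' : I'.map (Ideal.Quotient.mk (J.map (algebraMap C A))) = I)
    (hI'' : I''.map (Ideal.Quotient.mk (J.map (algebraMap C A))) = I) :
    ∃! φ : I →ₗ[A] B ⊗[C] J, Related J B I' I'' I φ := by
  let P := J.map (algebraMap C A)
  let mk := Ideal.Quotient.mk P
  have hker : ∀ K : Ideal A, K.map mk = I → ∀ x ∈ K, algebraMap A B x = 0 := fun K hK x hx =>
    (hB x).2 (hK ▸ Ideal.mem_map_of_mem mk hx)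
  have hlift : ∀ K : Ideal A, K.map mk = I → ∀ x : I, ∃ y ∈ K, mk y = x.1 := fun K hK x =>
    (Ideal.mem_map_iff_of_surjective _ Ideal.Quotient.mk_surjective).1 (hK.symm ▸ x.2)
  have hchoose : ∀ x : I, ∃ v : B ⊗[C] J, ∀ (x' x'' : A), x' ∈ I' → x'' ∈ I'' → mk x' = x.1 → mk x'' = x.1 →
      ∀ z : A ⊗[C] J, mulJ z = x'' - x' → projJ z = v := by
    intro x
    obtain ⟨a, ha, hax⟩ := hlift I' hI' x
    obtain ⟨b, hb, hbx⟩ := hlift I'' hI'' x
    obtain ⟨z₀, hz₀⟩ := exists_mulJ_eq (Ideal.Quotient.eq.1 (hbx.trans hax.symm))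
    refine ⟨projJ z₀, fun x' x'' hx' hx'' e' e'' z hz => ?_⟩
    obtain ⟨w', hw'⟩ := exists_mulJ_eq (Ideal.Quotient.eq.1 (e'.trans hax.symm))
    obtain ⟨w'', hw''⟩ := exists_mulJ_eq (Ideal.Quotient.eq.1 (e''.trans hbx.symm))
    have h1 : (projJ w' : B ⊗[C] J) = 0 := projJ_eq_zero (hker I' hI') (hw' ▸ sub_mem hx' ha)
    have h2 : (projJ w'' : B ⊗[C] J) = 0 := projJ_eq_zero (hker I'' hI'') (hw'' ▸ sub_mem hx'' hb)
    have : z = z₀ + w'' - w' := mulJ_injective (by rw [map_sub, map_add, hz, hz₀, hw', hw'']; ring)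
    rw [this, map_sub, map_add, h1, h2, add_zero, sub_zero]
  choose v hv using hchoose
  have hdata : ∀ x : I, ∃ (a b : A) (z : A ⊗[C] J), a ∈ I' ∧ b ∈ I'' ∧ mk a = x.1 ∧ mk b = x.1 ∧ mulJ z = b - a ∧
      projJ z = v x := by
    intro x
    obtain ⟨a, ha, hax⟩ := hlift I' hI' x
    obtain ⟨b, hb, hbx⟩ := hlift I'' hI'' x
    obtain ⟨z, hz⟩ := exists_mulJ_eq (Ideal.Quotient.eq.1 (hbx.trans hax.symm))
    exact ⟨a, b, z, ha, hb, hax, hbx, hz, hv x a b ha hb hax hbx z hz⟩
  let φ : I →ₗ[A] B ⊗[C] J :=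
    { toFun := v
      map_add' := fun x y => by
        obtain ⟨a, b, z, ha, hb, e₁, e₂, hz, hzv⟩ := hdata x
        obtain ⟨a', b', z', ha', hb', e₁', e₂', hz', hzv'⟩ := hdata y
        rw [← hzv, ← hzv', ← map_add]
        refine (hv (x + y) (a + a') (b + b') (add_mem ha ha') (add_mem hb hb') ?_ ?_ _ ?_).symm
        · rw [map_add, e₁, e₁']; rfl
        · rw [map_add, e₂, e₂']; rfl
        · rw [map_add, hz, hz']; ring
      map_smul' := fun c x => by
        obtain ⟨a, b, z, ha, hb, e₁, e₂, hz, hzv⟩ := hdata x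
        rw [RingHom.id_apply, ← hzv, ← projJ_smul]
        refine (hv (c • x) (c * a) (c * b) (Ideal.mul_mem_left _ _ ha) (Ideal.mul_mem_left _ _ hb) ?_ ?_ _ ?_).symm
        · rw [map_mul, e₁]; rfl
        · rw [map_mul, e₂]; rfl
        · rw [mulJ_smul, hz]; ring }
  refine ⟨φ, fun x hx x' x'' h' h'' e' e'' z hz => hv ⟨x, hx⟩ x' x'' h' h'' e' e'' z hz, ?_⟩
  intro ψ hψ
  refine LinearMap.ext fun x => ?_
  obtain ⟨a, b, z, ha, hb, e₁, e₂, hz, hzv⟩ := hdata x
  exact (hψ x.1 x.2 a b ha hb e₁ e₂ z hz).symm.trans hzv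

include hB in
theorem existsUnique_translate [Algebra (C ⧸ J) B] [IsScalarTower C (C ⧸ J) B] [Module.Flat (C ⧸ J) B]
    (hJ : J * J = ⊥) (hBsurj : Function.Surjective (algebraMap A B)) (I' : Ideal A) [Module.Flat C (A ⧸ I')]
    (hI' : I'.map (Ideal.Quotient.mk (J.map (algebraMap C A))) = I) (φ : I →ₗ[A] B ⊗[C] J) :
    ∃! I'' : Ideal A, Module.Flat C (A ⧸ I'') ∧ I''.map (Ideal.Quotient.mk (J.map (algebraMap C A))) = I ∧
      Related J B I' I'' I φ := by
  let P := J.map (algebraMap C A)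
  let mk := Ideal.Quotient.mk P
  have hk' : ∀ x ∈ I', algebraMap A B x = 0 := fun x hx => (hB x).2 (hI' ▸ Ideal.mem_map_of_mem mk hx)
  have hmem : ∀ x' ∈ I', mk x' ∈ I := fun x' hx' => hI' ▸ Ideal.mem_map_of_mem mk hx'
  have hmkJ : ∀ z : A ⊗[C] J, mk (mulJ z) = 0 := fun z => Ideal.Quotient.eq_zero_iff_mem.2 (mulJ_mem z)
  let T : Ideal A :=
    { carrier := {x | ∃ (x' : A) (hx' : x' ∈ I') (z : A ⊗[C] J), x = x' + mulJ z ∧ projJ z = φ ⟨mk x', hmem x' hx'⟩}
      add_mem' := by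
        rintro _ _ ⟨a, ha, z, rfl, hz⟩ ⟨b, hb, w, rfl, hw⟩
        refine ⟨a + b, add_mem ha hb, z + w, by rw [map_add]; ring, ?_⟩
        rw [map_add, hz, hw, ← map_add]
        exact congrArg φ (Subtype.ext (map_add mk a b).symm)
      zero_mem' := ⟨0, zero_mem _, 0, by simp, by
        rw [map_zero, show (⟨mk 0, hmem 0 (zero_mem _)⟩ : I) = 0 from Subtype.ext (map_zero mk), map_zero]⟩
      smul_mem' := by
        rintro c _ ⟨a, ha, z, rfl, hz⟩
        refine ⟨c * a, Ideal.mul_mem_left _ _ ha, c • z, by rw [smul_eq_mul, mulJ_smul]; ring, ?_⟩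
        rw [projJ_smul, hz, ← map_smul]
        exact congrArg φ (Subtype.ext (map_mul mk c a).symm) }
  have hTmap : T.map mk = I := by
    refine le_antisymm (Ideal.map_le_iff_le_comap.2 ?_) ?_
    · rintro _ ⟨a, ha, z, rfl, -⟩
      rw [Ideal.mem_comap, map_add, hmkJ, add_zero]
      exact hmem a ha
    · intro x hx
      obtain ⟨a, ha, rfl⟩ := (Ideal.mem_map_iff_of_surjective _ Ideal.Quotient.mk_surjective).1 (hI'.symm ▸ hx)
      obtain ⟨z, hz⟩ := projJ_surjective hBsurj (φ ⟨mk a, hx⟩)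
      rw [← add_zero (mk a), ← hmkJ z, ← map_add]
      exact Ideal.mem_map_of_mem _ ⟨a, ha, z, rfl, hz⟩
  have hTrel : Related J B I' T I φ := by
    rintro x hx x' x'' hx' ⟨a, ha, z₁, rfl, hz₁⟩ e' e'' z hz
    have hax : mk a = x := by rw [← e'', map_add, hmkJ, add_zero]
    obtain ⟨w, hw⟩ := exists_mulJ_eq (Ideal.Quotient.eq.1 (hax.trans e'.symm))
    have h0 : (projJ w : B ⊗[C] J) = 0 := projJ_eq_zero hk' (hw ▸ sub_mem ha hx')
    have : z = z₁ + w := mulJ_injective (by rw [map_add, hz, hw]; ring)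
    rw [this, map_add, hz₁, h0, add_zero]
    exact congrArg φ (Subtype.ext hax)
  have hjj : ∀ (z : A ⊗[C] J) (c : J), (c : C) • z = 0 := by
    intro z c
    induction z using TensorProduct.induction_on with
    | zero => simp
    | tmul a d =>
      rw [← TensorProduct.tmul_smul]
      rw [show (c : C) • d = 0 from Subtype.ext (Ideal.mem_bot.1 (hJ ▸ Ideal.mul_mem_mul c.2 d.2)), TensorProduct.tmul_zero]
    | add x y hx hy => rw [smul_add, hx, hy, add_zero]
  have hkerB : ∀ K : Ideal A, K.map mk = I → ∀ a, algebraMap A B a = 0 → ∃ y ∈ K, ∃ z : A ⊗[C] J, a = y + mulJ z := by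
    intro K hK a ha
    obtain ⟨y, hy, hya⟩ := (Ideal.mem_map_iff_of_surjective _ Ideal.Quotient.mk_surjective).1 (hK.symm ▸ (hB a).1 ha)
    obtain ⟨z, hz⟩ := exists_mulJ_eq (Ideal.Quotient.eq.1 hya.symm)
    exact ⟨y, hy, z, by rw [hz]; ring⟩
  -- elements killed in `B ⊗ J` vanish in `(A ⧸ K) ⊗ J`
  have hvanish : ∀ K : Ideal A, K.map mk = I → ∀ z : A ⊗[C] J, (projJ z : B ⊗[C] J) = 0 →
      (Ideal.Quotient.mkₐ C K).toLinearMap.rTensor J z = 0 ∧ mulJ z ∈ K := by
    intro K hK z hz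
    obtain ⟨w, rfl⟩ := ((rTensor_exact J (LinearMap.exact_subtype_ker_map (IsScalarTower.toAlgHom C A B).toLinearMap)
      hBsurj) z).1 hz
    clear hz
    induction w using TensorProduct.induction_on with
    | zero => simp
    | tmul a c =>
      obtain ⟨y, hy, z', ha⟩ := hkerB K hK a.1 a.2
      have hc : mulJ z' ⊗ₜ[C] c = (0 : A ⊗[C] J) := by
        clear ha
        induction z' using TensorProduct.induction_on with
        | zero => rw [map_zero, TensorProduct.zero_tmul]
        | tmul b d =>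
          rw [mulJ_tmul, ← Algebra.smul_def, ← TensorProduct.smul_tmul']
          exact hjj _ d
        | add x y hx hy => rw [map_add, TensorProduct.add_tmul, hx, hy, add_zero]
      rw [LinearMap.rTensor_tmul]
      simp only [Submodule.subtype_apply]
      rw [ha, TensorProduct.add_tmul, hc, add_zero]
      exact ⟨by simp [Ideal.Quotient.eq_zero_iff_mem.2 hy], by rw [mulJ_tmul]; exact Ideal.mul_mem_left _ _ hy⟩
    | add x y hx hy =>
      simp only [map_add, hx.1, hy.1, add_zero]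
      exact ⟨trivial, add_mem hx.2 hy.2⟩
  refine ⟨T, ⟨?_, hTmap, hTrel⟩, ?_⟩
  · have hinj : Function.Injective (J.subtype.lTensor (A ⧸ T)) := by
      rw [injective_iff_map_eq_zero]
      intro y hy
      obtain ⟨z, rfl⟩ := LinearMap.rTensor_surjective J (g := (Ideal.Quotient.mkₐ C T).toLinearMap)
        Ideal.Quotient.mk_surjective y
      have hnat : ∀ w : A ⊗[C] J, TensorProduct.rid C (A ⧸ T) (J.subtype.lTensor (A ⧸ T)
          ((Ideal.Quotient.mkₐ C T).toLinearMap.rTensor J w)) = Ideal.Quotient.mk T (mulJ w) := by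
        intro w
        induction w using TensorProduct.induction_on with
        | zero => simp
        | tmul b c => simp [mulJ, Algebra.smul_def]
        | add x y hx hy => simp only [map_add, hx, hy]
      have hzT : mulJ z ∈ T := by
        rw [← Ideal.Quotient.eq_zero_iff_mem, ← hnat, hy, map_zero]
      obtain ⟨a, ha, z₁, he, hz₁⟩ := hzT
      have hmka : mk a = 0 := by
        rw [show a = mulJ (z - z₁) by rw [map_sub, he]; ring]; exact hmkJ _
      rw [show (⟨mk a, hmem a ha⟩ : I) = 0 from Subtype.ext hmka, map_zero] at hz₁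
      have hw : (projJ (z - z₁) : B ⊗[C] J) = 0 :=
        projJ_eq_zero hk' (show mulJ (z - z₁) ∈ I' by rw [map_sub, he]; simpa using ha)
      rw [map_sub, hz₁, sub_zero] at hw
      exact (hvanish T hTmap z hw).1
    let π : A ⧸ T →ₗ[C] B := (Ideal.Quotient.liftₐ T (IsScalarTower.toAlgHom C A B)
      fun x hx => (hB x).2 (hTmap ▸ Ideal.mem_map_of_mem mk hx)).toLinearMap
    have hπs : Function.Surjective π := fun b => by
      obtain ⟨a, rfl⟩ := hBsurj b
      exact ⟨Ideal.Quotient.mk T a, rfl⟩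
    have hπk : LinearMap.ker π = J • (⊤ : Submodule C (A ⧸ T)) := by
      refine le_antisymm ?_ (Submodule.smul_le.2 fun c hc y _ => ?_)
      · intro y hy
        obtain ⟨a, rfl⟩ := Ideal.Quotient.mk_surjective y
        obtain ⟨a', ha', z, rfl⟩ := hkerB T hTmap a hy
        rw [map_add, Ideal.Quotient.eq_zero_iff_mem.2 ha', zero_add]
        clear hy
        induction z using TensorProduct.induction_on with
        | zero => simp
        | tmul b d =>
          rw [mulJ_tmul, map_mul, Ideal.Quotient.mk_algebraMap, ← Algebra.smul_def]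
          exact Submodule.smul_mem_smul d.2 trivial
        | add x y hx hy => rw [map_add, map_add]; exact add_mem hx hy
      · rw [LinearMap.mem_ker, map_smul, ← algebraMap_smul (C ⧸ J) c (π y), Ideal.Quotient.algebraMap_eq,
          Ideal.Quotient.eq_zero_iff_mem.2 hc, zero_smul]
    let e : (C ⧸ J) ⊗[C] (A ⧸ T) ≃ₗ[C] B :=
      (TensorProduct.quotTensorEquivQuotSMul (A ⧸ T) J).trans
        ((Submodule.quotEquivOfEq _ _ hπk.symm).trans (π.quotKerEquivOfSurjective hπs))
    have : Module.Flat (C ⧸ J) ((C ⧸ J) ⊗[C] (A ⧸ T)) :=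
      Module.Flat.of_linearEquiv (LinearEquiv.extendScalarsOfSurjective
        (R := C) (S := C ⧸ J) Ideal.Quotient.mk_surjective e)
    exact FlatCrit.flat_of_isNilpotent ⟨2, by rw [pow_two, hJ]; rfl⟩ hinj
  · rintro K ⟨-, hK, hKrel⟩
    have hstep : ∀ x' (hx' : x' ∈ I'), ∃ y ∈ K, ∃ z : A ⊗[C] J, y = x' + mulJ z ∧ projJ z = φ ⟨mk x', hmem x' hx'⟩ := by
      intro x' hx'
      obtain ⟨y, hy, hyx⟩ := (Ideal.mem_map_iff_of_surjective _ Ideal.Quotient.mk_surjective).1 (hK.symm ▸ hmem x' hx')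
      obtain ⟨z, hz⟩ := exists_mulJ_eq (Ideal.Quotient.eq.1 hyx)
      exact ⟨y, hy, z, by rw [hz]; ring, hKrel _ (hmem x' hx') x' y hx' hy rfl hyx z hz⟩
    refine le_antisymm (fun y hy => ?_) ?_
    · obtain ⟨x', hx', hxy⟩ := (Ideal.mem_map_iff_of_surjective _ Ideal.Quotient.mk_surjective).1
        (hI'.symm ▸ (hK ▸ Ideal.mem_map_of_mem mk hy : mk y ∈ I))
      obtain ⟨z, hz⟩ := exists_mulJ_eq (Ideal.Quotient.eq.1 hxy.symm)
      exact ⟨x', hx', z, by rw [hz]; ring, hKrel _ (hmem x' hx') x' y hx' hy rfl hxy.symm z hz⟩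
    · rintro _ ⟨x', hx', z, rfl, hz⟩
      obtain ⟨y, hy, z', rfl, hz'⟩ := hstep x' hx'
      have h0 := (hvanish K hK (z - z') (by rw [map_sub, hz, hz', sub_self])).2
      rw [map_sub] at h0
      simpa using add_mem hy h0

end Groth.Agent.ArtLift.Torsor

end
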