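import Mathlib
import Groth.Agent.CAlgH.ArtFlat

/-!
# Deformations of formally smooth algebras over Artinian rings are trivial
-/

universe u

open TensorProduct IsLocalRing

namespace Groth.Agent.ArtLift

/-- A flat deformation over an Artinian local `k`-algebra `A` of a formally smooth algebra is trivial. -/
theorem exists_trivialization {k A B B' : Type u} [Field k] [CommRing A] [IsLocalRing A] [IsArtinianRing A]
    [Algebra k A] (e : A →ₐ[k] k) [CommRing B] [Algebra k B] [Algebra.FormallySmooth k B] [CommRing B']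
    [Algebra k B'] [Algebra A B'] [IsScalarTower k A B'] [Module.Flat A B'] (q : B' →ₐ[k] B)
    (hq : Function.Surjective q) (hker : RingHom.ker q = (RingHom.ker e).map (algebraMap A B'))
    (hqA : ∀ a, q (algebraMap A B' a) = algebraMap k B (e a)) :
    ∃ s : B →ₐ[k] B', q.comp s = AlgHom.id k B ∧
      Function.Bijective (Algebra.TensorProduct.lift (IsScalarTower.toAlgHom k A B') s (fun _ _ => Commute.all _ _)) := by
  have hsurj : Function.Surjective e := fun r => ⟨algebraMap k A r, by simp⟩
  have hm : RingHom.ker e = maximalIdeal A :=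
    IsLocalRing.eq_maximalIdeal (RingHom.ker_isMaximal_of_surjective e hsurj)
  obtain ⟨N, hN⟩ := IsArtinianRing.isNilpotent_jacobson_bot (R := A)
  rw [IsLocalRing.jacobson_eq_maximalIdeal ⊥ bot_ne_top] at hN
  have hnil : IsNilpotent (RingHom.ker q.toRingHom) := by
    refine ⟨N, ?_⟩
    change (RingHom.ker q) ^ N = 0
    rw [hker, hm, ← Ideal.map_pow, hN]
    exact Ideal.map_bot
  let s := Algebra.FormallySmooth.liftOfSurjective (AlgHom.id k B) q hq hnil
  have hs : ∀ b, q (s b) = b := fun b =>
    Algebra.FormallySmooth.liftOfSurjective_apply (AlgHom.id k B) q hq hnil b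
  refine ⟨s, AlgHom.ext hs, ?_⟩
  let ψ := Algebra.TensorProduct.lift (IsScalarTower.toAlgHom k A B') s (fun _ _ => Commute.all _ _)
  have hψt : ∀ a b, ψ (a ⊗ₜ b) = algebraMap A B' a * s b := fun a b => by simp [ψ]
  let f : A ⊗[k] B →ₗ[A] B' :=
    { toFun := ψ
      map_add' := map_add ψ
      map_smul' := fun a z => by
        induction z using TensorProduct.induction_on with
        | zero => simp
        | tmul c b =>
          rw [TensorProduct.smul_tmul', hψt, hψt, RingHom.id_apply, smul_eq_mul, map_mul, Algebra.smul_def, mul_assoc]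
        | add x y hx hy => rw [smul_add, map_add, map_add, hx, hy, smul_add] }
  let ev : A ⊗[k] B →ₗ[k] B := (TensorProduct.lid k B).toLinearMap ∘ₗ e.toLinearMap.rTensor B
  have hqψ : ∀ z, q (ψ z) = ev z := by
    intro z
    induction z using TensorProduct.induction_on with
    | zero => simp
    | tmul a b => simp [hψt, ev, hqA, hs, Algebra.smul_def]
    | add x y hx hy => simp [hx, hy]
  have hev : ∀ z, ev z = 0 → z ∈ (maximalIdeal A • ⊤ : Submodule A (A ⊗[k] B)) := by
    intro z hz
    have h0 : e.toLinearMap.rTensor B z = 0 := (TensorProduct.lid k B).injective (hz.trans (map_zero _).symm)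
    obtain ⟨w, rfl⟩ := ((rTensor_exact B (LinearMap.exact_subtype_ker_map e.toLinearMap) hsurj) z).1 h0
    clear hz h0
    induction w using TensorProduct.induction_on with
    | zero => simp
    | tmul a b =>
      rw [LinearMap.rTensor_tmul, Submodule.subtype_apply, show (a.1 : A) ⊗ₜ[k] b = (a.1 : A) • ((1 : A) ⊗ₜ[k] b) by
        rw [TensorProduct.smul_tmul', smul_eq_mul, mul_one]]
      exact Submodule.smul_mem_smul (hm ▸ a.2) trivial
    | add x y hx hy => rw [map_add]; exact add_mem hx hy
  have hmem : ∀ y : B', y ∈ (maximalIdeal A • ⊤ : Submodule A B') ↔ q y = 0 := by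
    intro y
    rw [Ideal.smul_top_eq_map, Submodule.restrictScalars_mem, ← hm, ← hker, RingHom.mem_ker]
  refine ⟨CAlgH.ArtFlat.injective_of_injMod (f := f) fun z hz => hev z ?_, ?_⟩
  · rw [← hqψ]
    exact (hmem _).1 hz
  · have hstep : (⊤ : Submodule A B') ≤ LinearMap.range f ⊔ maximalIdeal A • ⊤ := by
      intro y _
      rw [Submodule.mem_sup]
      refine ⟨ψ (1 ⊗ₜ q y), ⟨1 ⊗ₜ q y, rfl⟩, y - ψ (1 ⊗ₜ q y), (hmem _).2 ?_, by ring⟩
      simp [hψt, hs]
    have hpow : ∀ n : ℕ, (⊤ : Submodule A B') ≤ LinearMap.range f ⊔ (maximalIdeal A ^ n) • ⊤ := by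
      intro n
      induction n with
      | zero => rw [pow_zero, Ideal.one_eq_top, Submodule.top_smul]; exact le_sup_right
      | succ n ih =>
        refine ih.trans (sup_le le_sup_left ?_)
        refine (Submodule.smul_mono le_rfl hstep).trans ?_
        rw [Submodule.smul_sup, pow_succ, Submodule.mul_smul]
        exact sup_le_sup_right Submodule.smul_le_right _
    intro y
    have hy := hpow N (Submodule.mem_top (x := y))
    rw [show maximalIdeal A ^ N = ⊥ from hN, Submodule.bot_smul, sup_bot_eq] at hy
    exact hy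

end Groth.Agent.ArtLift
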